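import Cfsg.Agent.H759.TwF.Data

/-!
# The row `²F₄(q)` (helper759)
-/

set_option autoImplicit false
set_option linter.unusedSectionVars false

namespace Cfsg.Agent.H759.TwF

open CoxeterSystem Cfsg Cfsg.Lie Cfsg.Lie.ChevalleyDatum
open Cfsg.Agent.ChevalleyStructure Cfsg.Agent.ChevalleyStructure.Elts Cfsg.Agent.ChevalleyStructure.CoxeterGeom
  Cfsg.Agent.ChevalleyStructure.CoxeterGeomTypes Cfsg.Agent.ChevalleyStructure.NPerm
  Cfsg.Agent.ChevalleyStructure.RootVec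
open Cfsg.Agent.Tits.Roots Cfsg.Agent.Tits.Core Cfsg.Agent.Nodes Cfsg.Agent.Nodes.Reps Cfsg.Agent.Nodes.BNOf
  Cfsg.Agent.Nodes.RGDChev
open Cfsg.Agent.KFacts.RgdField Cfsg.Agent.KFacts.RgdChevCoord Cfsg.Agent.BpExc.TorCent Cfsg.Agent.BpExc.TorChev
open Cfsg.Agent.GpExc.Field Cfsg.Agent.BpExc.Tow Cfsg.Agent.BpExc.TowChev
  Cfsg.Agent.BpExc.LangFr Cfsg.Agent.BpExc Cfsg.Agent.H129.TorusChar Cfsg.Agent.H129.TorusUntw
open Cfsg.Agent.H493.F4End Cfsg.Agent.H493.F4Tor Cfsg.Agent.H129.WData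
open Cfsg.Agent.H630.NH Cfsg.Agent.H630.Exc

universe u v

/-! ### the orders -/

theorem NN_pos (m : ℕ) (a : Fin 7) : 0 < pe (2 ^ m) (NN a) := by
  have hb : (1 : ℤ) ≤ 2 ^ m := one_le_pow₀ (by norm_num)
  generalize (2 : ℤ) ^ m = b at *
  have h1 : 0 ≤ b * (b - 1) := mul_nonneg (by omega) (by omega)
  have h3 : 0 ≤ b ^ 3 * (b - 1) := mul_nonneg (by positivity) (by omega)
  fin_cases a <;> simp [NN, tdA, tdB, tdCp, tdCm, tdD, tdEp, tdEm, pe] <;> nlinarith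

/-- the look up -/
def lk (a b : ℕ) : P × P × ℕ × ℕ := ((BZ.find? fun x => x.1 == a && x.2.1 == b).map fun x => x.2.2).getD ([], [], 0, 0)

theorem bz_ok : ∀ a b : Fin 7, a < b → peq (pa (pm (lk a b).1 (NN a)) (pm (lk a b).2.1 (NN b)))
    [2 ^ (lk a b).2.2.1 * 3 ^ (lk a b).2.2.2] = true := by
  decide +kernel

/-- The orders of different tori are coprime up to 2 and 3. -/
theorem eq_three {r : ℕ} (hr : r.Prime) (hr2 : r ≠ 2) {b : ℤ} {i j : Fin 7} (hij : i ≠ j) (hi : (r : ℤ) ∣ pe b (NN i))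
    (hj : (r : ℤ) ∣ pe b (NN j)) : r = 3 := by
  wlog hlt : i < j generalizing i j
  · exact this (Ne.symm hij) hj hi (lt_of_le_of_ne (not_lt.1 hlt) (Ne.symm hij))
  have h1 := pe_of_peq b (bz_ok i j hlt)
  rw [pe_pa, pe_pm, pe_pm, pe, pe, mul_zero, add_zero] at h1
  have h2 : (r : ℤ) ∣ 2 ^ (lk i j).2.2.1 * 3 ^ (lk i j).2.2.2 := by
    rw [← h1]
    exact dvd_add (hi.mul_left _) (hj.mul_left _)
  have hr' : Prime (r : ℤ) := Nat.prime_iff_prime_int.1 hr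
  rcases hr'.dvd_or_dvd h2 with h | h
  · exact absurd ((Nat.prime_dvd_prime_iff_eq hr Nat.prime_two).1
      (Int.natCast_dvd_natCast.1 (by simpa using hr'.dvd_of_dvd_pow h))) hr2
  · exact (Nat.prime_dvd_prime_iff_eq hr Nat.prime_three).1
      (Int.natCast_dvd_natCast.1 (by simpa using hr'.dvd_of_dvd_pow h))

theorem mod_three (m : ℕ) : (2 : ℤ) ^ m % 3 = 1 ∨ (2 : ℤ) ^ m % 3 = 2 := by
  induction m with
  | zero => left; norm_num
  | succ m ih => rw [pow_succ]; omega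

theorem pe_mod' (n b : ℤ) (p : P) : pe b p ≡ pe (b % n) p [ZMOD n] := by
  induction p with
  | nil => exact Int.ModEq.refl _
  | cons c p ih => exact (Int.ModEq.refl c).add ((Int.mod_modEq b n).symm.mul ih)

theorem two_tab : ∀ a : Fin 7, ¬ 2 ∣ pe 0 (NN a) ∧ ¬ 2 ∣ pe 1 (NN a) := by
  decide +kernel

theorem pe_mod (b : ℤ) (p : P) : pe b p ≡ pe (b % 3) p [ZMOD 3] := by
  induction p with
  | nil => exact Int.ModEq.refl _
  | cons c p ih => exact (Int.ModEq.refl c).add ((Int.mod_modEq b 3).symm.mul ih)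

theorem three_tab : ∀ a : Fin 7, (3 ∣ pe 1 (NN a) ↔ a = 1 ∨ a = 4) ∧ (3 ∣ pe 2 (NN a) ↔ a = 1 ∨ a = 4) := by
  decide +kernel

/-- 3 divides only the orders `B` and `D`. -/
theorem three_dvd_iff (m : ℕ) (a : Fin 7) : (3 : ℤ) ∣ pe (2 ^ m) (NN a) ↔ a = 1 ∨ a = 4 := by
  have h1 := pe_mod (2 ^ m) (NN a)
  have h2 : (3 : ℤ) ∣ pe (2 ^ m) (NN a) ↔ (3 : ℤ) ∣ pe ((2 : ℤ) ^ m % 3) (NN a) := by
    rw [Int.dvd_iff_emod_eq_zero, Int.dvd_iff_emod_eq_zero]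
    exact Eq.congr_left h1
  rw [h2]
  rcases mod_three m with h | h <;> rw [h]
  · exact (three_tab a).1
  · exact (three_tab a).2

/-- the ranks -/
def rk : Fin 7 → ℕ := ![2, 2, 2, 2, 1, 1, 1]

theorem card_eq {K : Type u} [Field K] [Fintype K] {m : ℕ} (hK : Fintype.card K = 2 ^ (2 * m + 1)) :
    ((Nat.card ↥(twistedF4 K (2 ^ m)) : ℕ) : ℤ) = (2 * (2 ^ m) ^ 2) ^ 12 * ∏ a, pe (2 ^ m) (NN a) ^ rk a := by
  rw [Cfsg.Agent.S1068.result hK]
  have h1 : 1 ≤ 2 ^ (2 * m + 1) := Nat.one_le_two_pow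
  have h4 : 1 ≤ (2 ^ (2 * m + 1)) ^ 4 := Nat.one_le_pow _ _ h1
  rw [Nat.cast_mul, Nat.cast_mul, Nat.cast_mul, Nat.cast_mul, Nat.cast_sub h1, Nat.cast_sub h4]
  push_cast
  have hb : (2 : ℤ) ^ (2 * m + 1) = 2 * (2 ^ m) ^ 2 := by rw [← pow_mul]; ring
  rw [hb]
  generalize ((2 : ℤ) ^ m) = b
  simp [Fin.prod_univ_succ, NN, rk, tdA, tdB, tdCp, tdCm, tdD, tdEp, tdEm, pe]
  ring

/-- A prime divisor of the order. -/
theorem exists_type {K : Type u} [Field K] [Fintype K] {m : ℕ} (hK : Fintype.card K = 2 ^ (2 * m + 1)) {r : ℕ}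
    (hr : r.Prime) (hr2 : r ≠ 2) (hd : r ∣ Nat.card ↥(twistedF4 K (2 ^ m))) : ∃ a, (r : ℤ) ∣ pe (2 ^ m) (NN a) := by
  have hr' : Prime (r : ℤ) := Nat.prime_iff_prime_int.1 hr
  have h1 := Int.natCast_dvd_natCast.2 hd
  rw [card_eq hK] at h1
  rcases hr'.dvd_or_dvd h1 with h | h
  · exfalso
    have h2 := hr'.dvd_of_dvd_pow h
    have h3 : (r : ℤ) ∣ 2 := by
      rcases hr'.dvd_or_dvd h2 with h3 | h3
      · exact h3
      · exact hr'.dvd_of_dvd_pow (hr'.dvd_of_dvd_pow h3)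
    exact hr2 ((Nat.prime_dvd_prime_iff_eq hr Nat.prime_two).1 (Int.natCast_dvd_natCast.1 (by simpa using h3)))
  · obtain ⟨a, -, ha⟩ := (Prime.dvd_finsetProd_iff hr' _).1 h
    exact ⟨a, hr'.dvd_of_dvd_pow ha⟩

/-- The index of a subgroup of order divisible by the order of a torus. -/
theorem not_dvd_index {K : Type u} [Field K] [Fintype K] {m : ℕ} (hK : Fintype.card K = 2 ^ (2 * m + 1)) {r : ℕ}
    (hr : r.Prime) (hr2 : r ≠ 2) (hr3 : r ≠ 3) {a : Fin 7} (ha : (r : ℤ) ∣ pe (2 ^ m) (NN a))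
    (T : Subgroup ↥(twistedF4 K (2 ^ m))) (hT : pe (2 ^ m) (NN a) ^ rk a ∣ ((Nat.card T : ℕ) : ℤ)) :
    ¬ r ∣ T.index := by
  intro hi
  have hr' : Prime (r : ℤ) := Nat.prime_iff_prime_int.1 hr
  have h1 : pe (2 ^ m) (NN a) ^ rk a * (r : ℤ) ∣ ((Nat.card ↥(twistedF4 K (2 ^ m)) : ℕ) : ℤ) := by
    rw [← Subgroup.card_mul_index T, Nat.cast_mul]
    exact mul_dvd_mul hT (Int.natCast_dvd_natCast.2 hi)
  rw [card_eq hK, ← Finset.mul_prod_erase Finset.univ _ (Finset.mem_univ a)] at h1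
  have h2 : (2 * (2 ^ m) ^ 2) ^ 12 * (pe (2 ^ m) (NN a) ^ rk a * ∏ x ∈ Finset.univ.erase a, pe (2 ^ m) (NN x) ^ rk x) =
      pe (2 ^ m) (NN a) ^ rk a * ((2 * (2 ^ m) ^ 2) ^ 12 * ∏ x ∈ Finset.univ.erase a, pe (2 ^ m) (NN x) ^ rk x) := by
    ring
  rw [h2] at h1
  have h3 := Int.dvd_of_mul_dvd_mul_left (pow_ne_zero _ (NN_pos m a).ne') h1
  rcases hr'.dvd_or_dvd h3 with h | h
  · have h2 := hr'.dvd_of_dvd_pow h
    have h3 : (r : ℤ) ∣ 2 := by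
      rcases hr'.dvd_or_dvd h2 with h3 | h3
      · exact h3
      · exact hr'.dvd_of_dvd_pow (hr'.dvd_of_dvd_pow h3)
    exact hr2 ((Nat.prime_dvd_prime_iff_eq hr Nat.prime_two).1 (Int.natCast_dvd_natCast.1 (by simpa using h3)))
  · obtain ⟨x, hx, hx'⟩ := (Prime.dvd_finsetProd_iff hr' _).1 h
    exact hr3 (eq_three hr hr2 (Finset.ne_of_mem_erase hx) (hr'.dvd_of_dvd_pow hx') ha)

/-! ### the element of order 3 -/

section Sig

variable {W : Type*} [Group W] (cs : CoxeterSystem CoxeterMatrix.F₄ W)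

theorem rep_chain_apply {C : List (Fin 4 × Mat 4)} (hC : ChainOK H493.PGF4T.Am C) (x : Fin 4 → ℤ) (i : Fin 4) :
    rep cs hp.isCartan (cs.wordProd (C.map Prod.fst)) x i = ∑ j, x j * hd C j i := by
  conv_lhs => rw [IsMC.eq_sum_sr x]
  rw [map_sum, Finset.sum_apply]
  refine Finset.sum_congr rfl fun j _ => ?_
  rw [map_zsmul, Pi.smul_apply, smul_eq_mul, chain_rep hp cs H493.PGF4T.hA hC]

/-- the element of order 3 -/
def sS : W := cs.wordProd (chS.map Prod.fst)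

/-- its conjugate -/
def sS1 : W := cs.wordProd (chS1.map Prod.fst)

theorem sig_tab : (∀ j i, (eN (rv j) : ℤ) * hd chS (rv j) i = (eN i : ℤ) * hd chS1 j (rv i)) ∧
    (∀ j i, ∑ l, hd tdB.C j l * hd chS l i = ∑ l, hd chS1 j l * hd tdB.C l i) ∧
    (∀ j i, (if j = i then 1 else 0) + hd chS j i + ∑ l, hd chS j l * hd chS l i = 0) := by
  decide +kernel

theorem sig_Tt (b : ℤ) (x : Fin 4 → ℤ) :
    rep cs hp.isCartan (sS cs) (Tt b x) = Tt b (rep cs hp.isCartan (sS1 cs) x) := by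
  refine hom_ext ((wh cs (sS cs)).comp (Tt b)) ((Tt b).comp (wh cs (sS1 cs))) (fun j => ?_) x
  funext i
  show rep cs hp.isCartan (sS cs) (Tt b (sr j)) i = Tt b (rep cs hp.isCartan (sS1 cs) (sr j)) i
  have e1 : rep cs hp.isCartan (sS cs) (sr (rv j)) = hd chS (rv j) := chain_rep hp cs H493.PGF4T.hA chS_ok (rv j)
  have e2 : rep cs hp.isCartan (sS1 cs) (sr j) = hd chS1 j := chain_rep hp cs H493.PGF4T.hA chS1_ok j
  rw [Tt_sr', map_zsmul, Pi.smul_apply, smul_eq_mul, e1, e2, Tt_apply]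
  have h := sig_tab.1 j i
  linear_combination b * h

theorem sig_w : sS cs * TD.w cs tdB = TD.w cs tdB * sS1 cs := by
  apply rep_injective cs hp.isCartan
  refine LinearMap.ext fun x => ?_
  refine hom_ext (rep cs hp.isCartan (sS cs * TD.w cs tdB)).toAddMonoidHom
    (rep cs hp.isCartan (TD.w cs tdB * sS1 cs)).toAddMonoidHom (fun j => ?_) x
  funext i
  show rep cs hp.isCartan (sS cs * TD.w cs tdB) (sr j) i = rep cs hp.isCartan (TD.w cs tdB * sS1 cs) (sr j) i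
  have e1 : rep cs hp.isCartan (TD.w cs tdB) (sr j) = hd tdB.C j := rep_w cs okT_B.1 j
  have e2 : rep cs hp.isCartan (sS1 cs) (sr j) = hd chS1 j := chain_rep hp cs H493.PGF4T.hA chS1_ok j
  rw [rep_mul_apply, rep_mul_apply, e1, e2]
  exact (rep_chain_apply cs chS_ok _ _).trans ((sig_tab.2.1 j i).trans (rep_chain_apply cs okT_B.1 _ _).symm)

theorem sig_sum (x : Fin 4 → ℤ) :
    x + rep cs hp.isCartan (sS cs) x + rep cs hp.isCartan (sS cs) (rep cs hp.isCartan (sS cs) x) = 0 := by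
  refine hom_ext (AddMonoidHom.id _ + wh cs (sS cs) + (wh cs (sS cs)).comp (wh cs (sS cs))) 0 (fun j => ?_) x
  funext i
  show (sr j : Fin 4 → ℤ) i + rep cs hp.isCartan (sS cs) (sr j) i +
    rep cs hp.isCartan (sS cs) (rep cs hp.isCartan (sS cs) (sr j)) i = 0
  have e1 : rep cs hp.isCartan (sS cs) (sr j) = hd chS j := chain_rep hp cs H493.PGF4T.hA chS_ok j
  have e3 : (sr j : Fin 4 → ℤ) i = if j = i then 1 else 0 := by
    by_cases h : j = i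
    · subst h; rw [sr_self, if_pos rfl]
    · rw [sr_ne (Ne.symm h), if_neg h]
  have h := sig_tab.2.2 j i
  have e4 : rep cs hp.isCartan (sS cs) (hd chS j) i = ∑ l, hd chS j l * hd chS l i := rep_chain_apply cs chS_ok _ _
  rw [e1, e3, e4]
  exact h

theorem sig_pow : sS cs ^ 3 ^ 1 = 1 := by
  apply rep_injective cs hp.isCartan
  refine LinearMap.ext fun x => ?_
  have h1 := sig_sum cs x
  have h2 := congrArg (rep cs hp.isCartan (sS cs)) h1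
  rw [map_add, map_add, map_zero] at h2
  have h3 : rep cs hp.isCartan (sS cs ^ 3 ^ 1) x =
      rep cs hp.isCartan (sS cs) (rep cs hp.isCartan (sS cs) (rep cs hp.isCartan (sS cs) x)) := by
    rw [← rep_mul_apply, ← rep_mul_apply]
    rw [pow_one, pow_three']
  rw [h3, map_one, Module.End.one_apply]
  have h4 : rep cs hp.isCartan (sS cs) (rep cs hp.isCartan (sS cs) (rep cs hp.isCartan (sS cs) x)) - x =
      (rep cs hp.isCartan (sS cs) x + rep cs hp.isCartan (sS cs) (rep cs hp.isCartan (sS cs) x) +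
        rep cs hp.isCartan (sS cs) (rep cs hp.isCartan (sS cs) (rep cs hp.isCartan (sS cs) x))) -
      (x + rep cs hp.isCartan (sS cs) x + rep cs hp.isCartan (sS cs) (rep cs hp.isCartan (sS cs) x)) := by abel
  rw [h1, h2, sub_zero] at h4
  exact sub_eq_zero.1 h4

variable {k : Type u} [Field k] [IsAlgClosed k] [CharP k 2]

theorem sig_free {s : ℕ} (hs : s.Prime) (hs3 : s ≠ 3) (t : ↥(chevF4.group k)) (ht : t ∈ TT chevF4 k) (h1 : t ^ s = 1)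
    (h2 : ∀ x, cX hp t (rep cs hp.isCartan (sS cs) x) = cX hp t x) : t = 1 := by
  have hmc := isMC_cX hp ht
  refine cX_inj hp ht (one_mem _) fun i => ?_
  rw [cX_one]
  have h3 : cX hp t (sr i) ^ 3 = 1 := by
    have h4 := congrArg (cX hp t) (sig_sum cs (sr i))
    rw [hmc.add, hmc.add, h2, h2, h2, hmc.zero] at h4
    rw [← h4]; ring
  have h4 : cX hp t (sr i) ^ s = 1 := by rw [← cX_pow hp ht, h1, cX_one]
  have h5 : orderOf (cX hp t (sr i)) ∣ 1 := by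
    have := Nat.dvd_gcd (orderOf_dvd_of_pow_eq_one h4) (orderOf_dvd_of_pow_eq_one h3)
    rwa [((Nat.coprime_primes hs Nat.prime_three).2 hs3).gcd_eq_one] at this
  exact orderOf_eq_one_iff.1 (Nat.dvd_one.1 h5)

end Sig

/-! ### the criteria -/

section Fin

variable {K : Type u} [Field K] [Fintype K] {m : ℕ} (hK : Fintype.card K = 2 ^ (2 * m + 1))

include hK

/-- **Theorem A** for a torus. -/
theorem factA {d : TD} (hd : OkT d) (hpos : 0 < pe (2 ^ m) d.N) {π : Set ℕ} {r s : ℕ} (hrp : r.Prime) (hsp : s.Prime)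
    (hr : r ∈ π) (hs : s ∈ π) (hrs : r ≠ s) (hsX : s ∣ Nat.card ↥(twistedF4 K (2 ^ m))) (hr2 : r ≠ 2)
    (h3 : d.me = 0 ∨ r ≠ 3) (hrN : (r : ℤ) ∣ pe (2 ^ m) d.N) (hsN : ¬ (s : ℤ) ∣ pe (2 ^ m) d.N) :
    ¬ Cond π ↥(twistedF4 K (2 ^ m)) := by
  classical
  have : Fact (Nat.Prime 2) := ⟨Nat.prime_two⟩
  have hc2 : CharP K 2 := F4Fixed.charP_two hK
  obtain ⟨p, e, hpF, hpc, hpk, he, hpe, hk⟩ := exists_closure hK
  have hp2 : p = 2 := CharP.eq K hpc hc2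
  subst hp2
  let k := AlgebraicClosure K
  let f : K →+* k := algebraMap K k
  let cs := CoxeterMatrix.F₄.toCoxeterSystem
  have hW : Finite CoxeterMatrix.F₄.Group := H493.PGF4.finW
  have hN : NSys CoxeterMatrix.F₄ (TT chevF4 k) (nc hp k) := nsys_of_locFin hp cs hk 2
  obtain ⟨n, hn⟩ := exists_rp cs hN (TD.w cs d)
  obtain ⟨z, hz⟩ := H493.F4Lang.lang_ste m n
  obtain ⟨N, hNe⟩ := Int.eq_ofNat_of_zero_le hpos.le
  exact not_cond_A hK f hk cs hn hz hrp hsp hr hs hrs hsX (hroot cs hd.1 hd.2.1 hd.2.2.2 hrp hr2 h3 hrN)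
    (N := N) (expo cs hd.1 hd.2.2.1 hNe.symm) (fun h => hsN (by
      rw [hNe]; exact Int.natCast_dvd_natCast.2 h))

/-- **Theorem B** for the primes 3 and `s ∣ q + 1`. -/
theorem factB {π : Set ℕ} {s : ℕ} (hsp : s.Prime) (hr : 3 ∈ π) (hs : s ∈ π) (hs3 : s ≠ 3)
    (hsX : s ∣ Nat.card ↥(twistedF4 K (2 ^ m))) : ¬ Cond π ↥(twistedF4 K (2 ^ m)) := by
  classical
  have : Fact (Nat.Prime 2) := ⟨Nat.prime_two⟩
  have hc2 : CharP K 2 := F4Fixed.charP_two hK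
  obtain ⟨p, e, hpF, hpc, hpk, he, hpe, hk⟩ := exists_closure hK
  have hp2 : p = 2 := CharP.eq K hpc hc2
  subst hp2
  let k := AlgebraicClosure K
  let f : K →+* k := algebraMap K k
  let cs := CoxeterMatrix.F₄.toCoxeterSystem
  have hW : Finite CoxeterMatrix.F₄.Group := H493.PGF4.finW
  have hN : NSys CoxeterMatrix.F₄ (TT chevF4 k) (nc hp k) := nsys_of_locFin hp cs hk 2
  obtain ⟨n, hn⟩ := exists_rp cs hN (TD.w cs tdB)
  obtain ⟨z, hz⟩ := H493.F4Lang.lang_ste m n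
  have hpos := NN_pos m 1
  obtain ⟨N, hNe⟩ := Int.eq_ofNat_of_zero_le hpos.le
  have h3 : (((3 : ℕ) : ℕ) : ℤ) ∣ pe (2 ^ m) tdB.N := (three_dvd_iff m 1).2 (Or.inl rfl)
  have hN0 : 0 < N := by
    have : (0 : ℤ) < (N : ℤ) := by
      have h4 : pe (2 ^ m) (NN 1) = (N : ℤ) := hNe
      rw [← h4]; exact hpos
    exact_mod_cast this
  refine not_cond_B hK f hk cs hn hz Nat.prime_three hsp hr hs (Ne.symm hs3) hsX
    (hroot cs okT_B.1 okT_B.2.1 okT_B.2.2.2 Nat.prime_three (by norm_num) (Or.inl rfl) h3)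
    (Y := Mh (2 ^ m) tdB.Y) (N := N) hN0 (fun x => ?_) (s := sS cs) (s1 := sS1 cs) (sig_Tt cs _) (sig_w cs) (j := 1)
    (sig_pow cs) (sig_free cs hsp hs3)
  rw [Yw cs okT_B.1 ok3_B]
  have h4 : pe (2 ^ m) tdB.N = (N : ℤ) := hNe
  rw [h4, natCast_zsmul]

omit hK in
theorem coprime_pow {N : ℤ} {k E : ℕ} {v x : ℤ} (hodd : ¬ 2 ∣ N) (h : x + v * N = 2 ^ k * (2 ^ m) ^ E) :
    IsCoprime N x := by
  have h1 : IsCoprime N 2 := by
    rw [Int.isCoprime_iff_gcd_eq_one, Int.gcd_comm]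
    exact (Int.isCoprime_iff_gcd_eq_one.1 ((Int.prime_two.coprime_iff_not_dvd).2 hodd))
  have h2 : IsCoprime N (2 ^ k * (2 ^ m) ^ E) := by
    rw [← pow_mul, ← pow_add]
    exact h1.pow_right
  rw [← h] at h2
  exact (IsCoprime.add_mul_right_right_iff).1 h2

omit hK in
theorem odd_NN (b : ℤ) (a : Fin 7) : ¬ 2 ∣ pe b (NN a) := by
  have h2 : (2 : ℤ) ∣ pe b (NN a) ↔ (2 : ℤ) ∣ pe (b % 2) (NN a) := by
    rw [Int.dvd_iff_emod_eq_zero, Int.dvd_iff_emod_eq_zero]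
    exact Eq.congr_left (pe_mod' 2 b (NN a))
  rw [h2]
  rcases Int.emod_two_eq_zero_or_one b with h | h <;> rw [h]
  · exact (two_tab a).1
  · exact (two_tab a).2

omit hK in
theorem odd_cast {k : Type*} [Field k] [CharP k 2] {N : ℕ} {a : Fin 7} {b : ℤ} (h : pe b (NN a) = (N : ℤ)) :
    (N : k) ≠ 0 := by
  rw [Ne, CharP.cast_eq_zero_iff k 2]
  intro h1
  apply odd_NN b a
  rw [h]
  exact_mod_cast h1

/-- The torus, rank 1. -/
theorem factT1 {d : TD} (hd : OkT d) {a : Fin 7} (ha : NN a = d.N) {c : Fin 4 → P} {U : Fin 4} {v : P} {κ E : ℕ}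
    (hO : OkO d c U v κ E) : ∃ T : Subgroup ↥(twistedF4 K (2 ^ m)), IsMulCommutative T ∧
      pe (2 ^ m) d.N ^ 1 ∣ ((Nat.card T : ℕ) : ℤ) := by
  classical
  have : Fact (Nat.Prime 2) := ⟨Nat.prime_two⟩
  have hc2 : CharP K 2 := F4Fixed.charP_two hK
  obtain ⟨p, e, hpF, hpc, hpk, he, hpe, hk⟩ := exists_closure hK
  have hp2 : p = 2 := CharP.eq K hpc hc2
  subst hp2
  let k := AlgebraicClosure K
  let f : K →+* k := algebraMap K k
  let cs := CoxeterMatrix.F₄.toCoxeterSystem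
  have hW : Finite CoxeterMatrix.F₄.Group := H493.PGF4.finW
  have hN : NSys CoxeterMatrix.F₄ (TT chevF4 k) (nc hp k) := nsys_of_locFin hp cs hk 2
  obtain ⟨n, hn⟩ := exists_rp cs hN (TD.w cs d)
  obtain ⟨z, hz⟩ := H493.F4Lang.lang_ste m n
  have hpos := NN_pos m a
  have hodd := odd_NN (2 ^ m) a
  obtain ⟨N, hNe⟩ := Int.eq_ofNat_of_zero_le hpos.le
  have hNk : (N : k) ≠ 0 := odd_cast hNe
  rw [ha] at hNe hodd
  refine ⟨tX chevF4 k (eF m f) z, ⟨⟨fun x y => Subtype.ext (tX_comm hp (eF_injective f) z x.2 y.2)⟩⟩, ?_⟩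
  rw [pow_one, hNe]
  refine Int.natCast_dvd_natCast.2 (dvd_card_one hK f hk cs hn hz hNk (L := Lc (2 ^ m) d.Q c) (U := sr U)
    (fun x => by rw [← hNe]; exact Lc_adapted cs hd.1 hd.2.1 _ c x) ?_)
  have h1 := pe_of_peq (2 ^ m) hO
  rw [pe_pa, pe_pm, pe_p4, pe_pmo] at h1
  rw [← hNe]
  refine coprime_pow (m := m) hodd (v := pe (2 ^ m) v) (k := κ) (E := E) ?_
  rw [Lc_apply, ← h1]
  simp only [Mh_sr, pe_pm]

/-- The torus, rank 2. -/
theorem factT2 {d : TD} (hd : OkT d) {a : Fin 7} (ha : NN a = d.N) {c c' : Fin 4 → P} {U U' : Fin 4} {v v' : P}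
    {κ E κ' E' : ℕ} (hO : OkO d c U v κ E) (hO' : OkO d c' U' v' κ' E') (hZ : OkZ d c' U) :
    ∃ T : Subgroup ↥(twistedF4 K (2 ^ m)), IsMulCommutative T ∧ pe (2 ^ m) d.N ^ 2 ∣ ((Nat.card T : ℕ) : ℤ) := by
  classical
  have : Fact (Nat.Prime 2) := ⟨Nat.prime_two⟩
  have hc2 : CharP K 2 := F4Fixed.charP_two hK
  obtain ⟨p, e, hpF, hpc, hpk, he, hpe, hk⟩ := exists_closure hK
  have hp2 : p = 2 := CharP.eq K hpc hc2
  subst hp2
  let k := AlgebraicClosure K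
  let f : K →+* k := algebraMap K k
  let cs := CoxeterMatrix.F₄.toCoxeterSystem
  have hW : Finite CoxeterMatrix.F₄.Group := H493.PGF4.finW
  have hN : NSys CoxeterMatrix.F₄ (TT chevF4 k) (nc hp k) := nsys_of_locFin hp cs hk 2
  obtain ⟨n, hn⟩ := exists_rp cs hN (TD.w cs d)
  obtain ⟨z, hz⟩ := H493.F4Lang.lang_ste m n
  have hpos := NN_pos m a
  have hodd := odd_NN (2 ^ m) a
  obtain ⟨N, hNe⟩ := Int.eq_ofNat_of_zero_le hpos.le
  have hNk : (N : k) ≠ 0 := odd_cast hNe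
  rw [ha] at hNe hodd
  have key : ∀ {c : Fin 4 → P} {U : Fin 4} {v : P} {κ E : ℕ}, OkO d c U v κ E →
      IsCoprime (N : ℤ) (Lc (2 ^ m) d.Q c (sr U)) := by
    intro c U v κ E hO
    have h1 := pe_of_peq (2 ^ m) hO
    rw [pe_pa, pe_pm, pe_p4, pe_pmo] at h1
    rw [← hNe]
    refine coprime_pow (m := m) hodd (v := pe (2 ^ m) v) (k := κ) (E := E) ?_
    rw [Lc_apply, ← h1]
    simp only [Mh_sr, pe_pm]
  refine ⟨tX chevF4 k (eF m f) z, ⟨⟨fun x y => Subtype.ext (tX_comm hp (eF_injective f) z x.2 y.2)⟩⟩, ?_⟩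
  rw [hNe]
  have h0 : Lc (2 ^ m) d.Q c' (sr U) = 0 := by
    have h1 := pe_of_peq (2 ^ m) hZ
    rw [pe_p4, pe] at h1
    rw [Lc_apply, ← h1]
    simp only [Mh_sr, pe_pm]
  have h1 := dvd_card_two hK f hk cs hn hz hNk (L := Lc (2 ^ m) d.Q c) (L' := Lc (2 ^ m) d.Q c') (U := sr U)
    (U' := sr U') (fun x => by rw [← hNe]; exact Lc_adapted cs hd.1 hd.2.1 _ c x)
    (fun x => by rw [← hNe]; exact Lc_adapted cs hd.1 hd.2.1 _ c' x) (key hO) (key hO') (by rw [h0]; exact dvd_zero _)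
  exact_mod_cast Int.natCast_dvd_natCast.2 h1

/-- **The tori.** -/
theorem factT (a : Fin 7) : ∃ T : Subgroup ↥(twistedF4 K (2 ^ m)), IsMulCommutative T ∧
    pe (2 ^ m) (NN a) ^ rk a ∣ ((Nat.card T : ℕ) : ℤ) := by
  fin_cases a
  · exact factT2 hK okT_A (a := 0) rfl okO_A okO2_A okZ_A
  · exact factT2 hK okT_B (a := 1) rfl okO_B okO2_B okZ_B
  · exact factT2 hK okT_Cp (a := 2) rfl okO_Cp okO2_Cp okZ_Cp
  · exact factT2 hK okT_Cm (a := 3) rfl okO_Cm okO2_Cm okZ_Cm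
  · exact factT1 hK okT_D (a := 4) rfl okO_D
  · exact factT1 hK okT_Ep (a := 5) rfl okO_Ep
  · exact factT1 hK okT_Em (a := 6) rfl okO_Em

/-- **Theorem A.** -/
theorem fact (a : Fin 7) {π : Set ℕ} {r s : ℕ} (hrp : r.Prime) (hsp : s.Prime)
    (hr : r ∈ π) (hs : s ∈ π) (hrs : r ≠ s) (hsX : s ∣ Nat.card ↥(twistedF4 K (2 ^ m))) (hr2 : r ≠ 2)
    (h3 : a ≠ 4 ∨ r ≠ 3) (hrN : (r : ℤ) ∣ pe (2 ^ m) (NN a)) (hsN : ¬ (s : ℤ) ∣ pe (2 ^ m) (NN a)) :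
    ¬ Cond π ↥(twistedF4 K (2 ^ m)) := by
  have hpos := NN_pos m a
  fin_cases a
  · exact factA hK okT_A hpos hrp hsp hr hs hrs hsX hr2 (Or.inl rfl) hrN hsN
  · exact factA hK okT_B hpos hrp hsp hr hs hrs hsX hr2 (Or.inl rfl) hrN hsN
  · exact factA hK okT_Cp hpos hrp hsp hr hs hrs hsX hr2 (Or.inl rfl) hrN hsN
  · exact factA hK okT_Cm hpos hrp hsp hr hs hrs hsX hr2 (Or.inl rfl) hrN hsN
  · refine factA hK okT_D hpos hrp hsp hr hs hrs hsX hr2 (Or.inr (h3.resolve_left ?_)) hrN hsN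
    intro h
    exact h rfl
  · exact factA hK okT_Ep hpos hrp hsp hr hs hrs hsX hr2 (Or.inl rfl) hrN hsN
  · exact factA hK okT_Em hpos hrp hsp hr hs hrs hsX hr2 (Or.inl rfl) hrN hsN

/-- 3 is not in `π`. -/
theorem three_not {π : Set ℕ} (hπ : ∀ p ∈ π, p.Prime ∧ p ≠ 2 ∧ p ∣ Nat.card ↥(twistedF4 K (2 ^ m)))
    (hc : Cond π ↥(twistedF4 K (2 ^ m))) {s : ℕ} (hs : s ∈ π) (hs3 : s ≠ 3) : 3 ∉ π := by
  intro h3
  obtain ⟨hsp, hs2, hsX⟩ := hπ s hs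
  obtain ⟨-, -, h3X⟩ := hπ 3 h3
  obtain ⟨a, ha⟩ := exists_type hK hsp hs2 hsX
  by_cases h1 : (3 : ℤ) ∣ pe (2 ^ m) (NN a)
  · rcases (three_dvd_iff m a).1 h1 with rfl | rfl
    · exact factB hK hsp h3 hs hs3 hsX hc
    · refine fact hK 1 Nat.prime_three hsp h3 hs (Ne.symm hs3) hsX (by norm_num) (Or.inl (by decide))
        ((three_dvd_iff m 1).2 (Or.inl rfl)) (fun h => hs3 ?_) hc
      exact eq_three hsp hs2 (i := 1) (j := 4) (by decide) h ha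
  · exact fact hK a hsp Nat.prime_three hs h3 hs3 h3X hs2 (Or.inr hs3) ha h1 hc

/-- **The row `²F₄(q)`.** -/
theorem row : Row ↥(twistedF4 K (2 ^ m)) := by
  intro π hπ hnt hc
  obtain ⟨p, hp', q, hq, hpq⟩ := hnt
  have h3 : 3 ∉ π := by
    by_cases h : p = 3
    · exact three_not hK hπ hc hq (fun h1 => hpq (by rw [h, h1]))
    · exact three_not hK hπ hc hp' h
  obtain ⟨a, ha⟩ := exists_type hK (hπ p hp').1 (hπ p hp').2.1 (hπ p hp').2.2
  have hp3 : p ≠ 3 := fun h => h3 (h ▸ hp')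
  obtain ⟨T, hT, hTc⟩ := factT hK (m := m) a
  refine ⟨T, hT, fun r hr => ?_⟩
  obtain ⟨hrp, hr2, hrX⟩ := hπ r hr
  have hr3 : r ≠ 3 := fun h => h3 (h ▸ hr)
  have hra : (r : ℤ) ∣ pe (2 ^ m) (NN a) := by
    by_contra hcon
    have hpr : p ≠ r := fun h => hcon (h ▸ ha)
    exact fact hK a (hπ p hp').1 hrp hp' hr hpr hrX (hπ p hp').2.1 (Or.inr hp3) ha hcon hc
  exact not_dvd_index hK hrp hr2 hr3 hra T hTc

end Fin

theorem crossRow {X : Type*} [Group X] (h : Row X) (r : ℕ) : CrossRow r X := fun π hπ =>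
  h π fun p hp => ⟨(hπ p hp).1, (hπ p hp).2.1, (hπ p hp).2.2.2⟩

/-- **The row `²F₄(q)`.** -/
theorem row_2F4 {G : Type*} [Group G] (h : Iso2F4 G) : Row G := by
  obtain ⟨K, _, _, m, hm, hK, ⟨e⟩⟩ := h
  exact Row.congr e.symm (row hK)

theorem crossRow_2F4 {G : Type*} [Group G] (h : Iso2F4 G) : CrossRow 2 G := crossRow (row_2F4 h) 2

end Cfsg.Agent.H759.TwF
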