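import Cfsg.Agent.H759.TwF.Ord
import Cfsg.Agent.H493.PGF4T
import Cfsg.Agent.H759.TwF.Poly

/-!
# Polynomial certificates for the twisted tori of `²F₄(q)` (helper759)
-/

set_option autoImplicit false
set_option linter.unusedSectionVars false

namespace Cfsg.Agent.H759.TwF

open CoxeterSystem Cfsg Cfsg.Lie Cfsg.Lie.ChevalleyDatum
open Cfsg.Agent.ChevalleyStructure Cfsg.Agent.ChevalleyStructure.Elts Cfsg.Agent.ChevalleyStructure.CoxeterGeom
  Cfsg.Agent.ChevalleyStructure.CoxeterGeomTypes Cfsg.Agent.ChevalleyStructure.NPerm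
  Cfsg.Agent.ChevalleyStructure.RootVec
open Cfsg.Agent.Tits.Roots Cfsg.Agent.Tits.Core Cfsg.Agent.Nodes Cfsg.Agent.Nodes.Reps Cfsg.Agent.Nodes.BNOf
  Cfsg.Agent.Nodes.RGDChev
open Cfsg.Agent.KFacts.RgdField Cfsg.Agent.KFacts.RgdChevCoord Cfsg.Agent.BpExc.TorCent Cfsg.Agent.BpExc.TorChev
open Cfsg.Agent.GpExc.Field Cfsg.Agent.BpExc.Tow Cfsg.Agent.BpExc.TowChev
  Cfsg.Agent.BpExc.LangFr Cfsg.Agent.BpExc Cfsg.Agent.H129.TorusChar Cfsg.Agent.H129.TorusUntw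
open Cfsg.Agent.H493.F4End Cfsg.Agent.H493.F4Tor Cfsg.Agent.H129.WData
open Cfsg.Agent.H630.NH Cfsg.Agent.H630.Exc

universe u v

/-- the certificate of a root: `∑ u i L_i(a) + v N = 2^k 3^e b^E` -/
structure RC where
  u : List P
  v : P
  k : ℕ
  e : ℕ
  E : ℕ

/-- the data of a torus -/
structure TD where
  C : List (Fin 4 × Mat 4)
  N : P
  Q : Fin 4 → Fin 4 → P
  Y : Fin 4 → Fin 4 → P
  R : List RC
  /-- bound for the exponent of 3 -/
  me : ℕ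

/-- matrix in row convention as an operator -/
def Mh (b : ℤ) (Y : Fin 4 → Fin 4 → P) : (Fin 4 → ℤ) →+ (Fin 4 → ℤ) where
  toFun x i := ∑ j, x j * pe b (Y j i)
  map_zero' := by funext i; simp
  map_add' x y := by funext i; simp [add_mul, Finset.sum_add_distrib]

theorem Mh_apply (b : ℤ) (Y : Fin 4 → Fin 4 → P) (x : Fin 4 → ℤ) (i : Fin 4) :
    Mh b Y x i = ∑ j, x j * pe b (Y j i) := rfl

theorem sum_sr (j : Fin 4) (g : Fin 4 → ℤ) : ∑ i, (sr j : Fin 4 → ℤ) i * g i = g j := by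
  rw [Finset.sum_eq_single j]
  · rw [sr_self, one_mul]
  · intro i _ hi
    rw [sr_ne hi, zero_mul]
  · intro h; exact absurd (Finset.mem_univ j) h

theorem Mh_sr (b : ℤ) (Y : Fin 4 → Fin 4 → P) (j i : Fin 4) : Mh b Y (sr j) i = pe b (Y j i) := by
  rw [Mh_apply, sum_sr]

/-- the functional with coefficients `u` -/
def Lc (b : ℤ) (Q : Fin 4 → Fin 4 → P) (u : Fin 4 → P) : (Fin 4 → ℤ) →+ ℤ where
  toFun x := ∑ i, pe b (u i) * Mh b Q x i
  map_zero' := by simp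
  map_add' x y := by simp [mul_add, Finset.sum_add_distrib]

theorem Lc_apply (b : ℤ) (Q : Fin 4 → Fin 4 → P) (u : Fin 4 → P) (x : Fin 4 → ℤ) :
    Lc b Q u x = ∑ i, pe b (u i) * Mh b Q x i := rfl

/-- the first check: `Q ∘ (w - Θ) = N w` -/
def Ok1 (d : TD) : Prop := ∀ j i : Fin 4, peq (p4 fun l => ps (hd d.C j l) (d.Q l i))
  (pa (pm [0, (eN (rv j) : ℤ)] (d.Q (rv j) i)) (ps (hd d.C j i) d.N)) = true

instance (d : TD) : Decidable (Ok1 d) := by unfold Ok1; infer_instance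

/-- the second check: `(w - Θ) ∘ Y = N` -/
def Ok2 (d : TD) : Prop := ∀ j i : Fin 4, peq (p4 fun l => ps (hd d.C l i) (d.Y j l))
  (pa (pm [0, (eN i : ℤ)] (d.Y j (rv i))) (if j = i then d.N else [])) = true

instance (d : TD) : Decidable (Ok2 d) := by unfold Ok2; infer_instance

/-- the third check: `Y ∘ (w - Θ) = N` -/
def Ok3 (d : TD) : Prop := ∀ j i : Fin 4, peq (p4 fun l => ps (hd d.C j l) (d.Y l i))
  (pa (pm [0, (eN (rv j) : ℤ)] (d.Y (rv j) i)) (if j = i then d.N else [])) = true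

instance (d : TD) : Decidable (Ok3 d) := by unfold Ok3; infer_instance

/-- the check of a root certificate -/
def OkR (d : TD) (r : ℕ) (c : RC) : Prop :=
  peq (pa (p4 fun i => pm (c.u.getD i []) (p4 fun j => ps (rt chevF4 r j) (d.Q j i))) (pm c.v d.N))
    (pmo (2 ^ c.k * 3 ^ c.e) c.E) = true ∧ c.e ≤ d.me

instance (d : TD) (r : ℕ) (c : RC) : Decidable (OkR d r c) := by unfold OkR; infer_instance

/-- the check of the root certificates -/
def Ok4 (d : TD) : Prop := ∀ r : Fin 24, OkR d (24 + r) (d.R.getD r ⟨[], [], 0, 0, 0⟩)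

instance (d : TD) : Decidable (Ok4 d) := by unfold Ok4; infer_instance

theorem rt_neg : ∀ r : Fin 24, ∀ i : Fin 4, rt chevF4 (23 - r) i = - rt chevF4 (24 + r) i := by
  decide +kernel

section

variable {W : Type*} [Group W] (cs : CoxeterSystem CoxeterMatrix.F₄ W) {d : TD}

/-- the element of the Weyl group -/
def TD.w (d : TD) : W := cs.wordProd (d.C.map Prod.fst)

theorem rep_w (hC : ChainOK H493.PGF4T.Am d.C) (j : Fin 4) : rep cs hp.isCartan (TD.w cs d) (sr j) = hd d.C j :=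
  chain_rep hp cs H493.PGF4T.hA hC j

theorem rep_w_apply (hC : ChainOK H493.PGF4T.Am d.C) (x : Fin 4 → ℤ) (i : Fin 4) :
    rep cs hp.isCartan (TD.w cs d) x i = ∑ j, x j * hd d.C j i := by
  conv_lhs => rw [IsMC.eq_sum_sr x]
  rw [map_sum, Finset.sum_apply]
  refine Finset.sum_congr rfl fun j _ => ?_
  rw [map_zsmul, Pi.smul_apply, smul_eq_mul, rep_w cs hC]

theorem Tt_apply (b : ℤ) (x : Fin 4 → ℤ) (j : Fin 4) : Tt b x j = (eN j : ℤ) * b * x (rv j) := rfl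

theorem Tt_sr' (b : ℤ) (j : Fin 4) : Tt b (sr j) = ((eN (rv j) : ℤ) * b) • (sr (rv j) : Fin 4 → ℤ) := by
  have h := Tt_sr b (rv j)
  rwa [rv_rv] at h

theorem adapted (hC : ChainOK H493.PGF4T.Am d.C) (h1 : Ok1 d) (b : ℤ) (x : Fin 4 → ℤ) (i : Fin 4) :
    Mh b d.Q (rep cs hp.isCartan (TD.w cs d) x) i = Mh b d.Q (Tt b x) i +
      pe b d.N * rep cs hp.isCartan (TD.w cs d) x i := by
  let f : (Fin 4 → ℤ) →+ (Fin 4 → ℤ) := (Mh b d.Q).comp (wh cs (TD.w cs d))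
  let g : (Fin 4 → ℤ) →+ (Fin 4 → ℤ) := (Mh b d.Q).comp (Tt b) + (pe b d.N) • (wh cs (TD.w cs d))
  have h : ∀ x, f x = g x := hom_ext f g fun j => by
    funext i
    show Mh b d.Q (rep cs hp.isCartan (TD.w cs d) (sr j)) i = Mh b d.Q (Tt b (sr j)) i +
      pe b d.N * rep cs hp.isCartan (TD.w cs d) (sr j) i
    have h2 := pe_of_peq b (h1 j i)
    rw [pe_p4, pe_pa, pe_pm, pe_ps] at h2
    simp only [pe_ps, pe] at h2
    rw [Mh_apply, rep_w cs hC, Tt_sr', map_zsmul, Pi.smul_apply, smul_eq_mul, Mh_sr]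
    linear_combination h2
  exact congrFun (h x) i

theorem Lc_adapted (hC : ChainOK H493.PGF4T.Am d.C) (h1 : Ok1 d) (b : ℤ) (u : Fin 4 → P) (x : Fin 4 → ℤ) :
    pe b d.N ∣ Lc b d.Q u (rep cs hp.isCartan (TD.w cs d) x) - Lc b d.Q u (Tt b x) := by
  rw [Lc_apply, Lc_apply, ← Finset.sum_sub_distrib]
  refine Finset.dvd_sum fun i _ => ?_
  rw [adapted cs hC h1]
  exact ⟨pe b (u i) * rep cs hp.isCartan (TD.w cs d) x i, by ring⟩

theorem wY (hC : ChainOK H493.PGF4T.Am d.C) (h2 : Ok2 d) (b : ℤ) (x : Fin 4 → ℤ) :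
    rep cs hp.isCartan (TD.w cs d) (Mh b d.Y x) = Tt b (Mh b d.Y x) + pe b d.N • x := by
  let f : (Fin 4 → ℤ) →+ (Fin 4 → ℤ) := (wh cs (TD.w cs d)).comp (Mh b d.Y)
  let g : (Fin 4 → ℤ) →+ (Fin 4 → ℤ) := (Tt b).comp (Mh b d.Y) + (pe b d.N) • AddMonoidHom.id _
  refine hom_ext f g (fun j => ?_) x
  funext i
  show rep cs hp.isCartan (TD.w cs d) (Mh b d.Y (sr j)) i = Tt b (Mh b d.Y (sr j)) i + pe b d.N * (sr j : Fin 4 → ℤ) i
  have h3 := pe_of_peq b (h2 j i)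
  rw [pe_p4, pe_pa, pe_pm] at h3
  simp only [pe_ps, pe] at h3
  rw [rep_w_apply cs hC, Tt_apply, Mh_sr]
  simp only [Mh_sr]
  by_cases hji : j = i
  · subst hji
    rw [if_pos rfl] at h3
    rw [sr_self]
    rw [show ∑ x, pe b (d.Y j x) * hd d.C x j = ∑ x, hd d.C x j * pe b (d.Y j x) from
      Finset.sum_congr rfl fun _ _ => mul_comm _ _]
    linear_combination h3
  · rw [if_neg hji, pe] at h3
    rw [sr_ne (Ne.symm hji)]
    rw [show ∑ x, pe b (d.Y j x) * hd d.C x i = ∑ x, hd d.C x i * pe b (d.Y j x) from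
      Finset.sum_congr rfl fun _ _ => mul_comm _ _]
    linear_combination h3

theorem Yw (hC : ChainOK H493.PGF4T.Am d.C) (h2 : Ok3 d) (b : ℤ) (x : Fin 4 → ℤ) :
    Mh b d.Y (rep cs hp.isCartan (TD.w cs d) x - Tt b x) = pe b d.N • x := by
  let f : (Fin 4 → ℤ) →+ (Fin 4 → ℤ) := (Mh b d.Y).comp (wh cs (TD.w cs d) - Tt b)
  let g : (Fin 4 → ℤ) →+ (Fin 4 → ℤ) := (pe b d.N) • AddMonoidHom.id _
  refine hom_ext f g (fun j => ?_) x
  funext i
  show Mh b d.Y (rep cs hp.isCartan (TD.w cs d) (sr j) - Tt b (sr j)) i = pe b d.N * (sr j : Fin 4 → ℤ) i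
  have h3 := pe_of_peq b (h2 j i)
  rw [pe_p4, pe_pa, pe_pm] at h3
  simp only [pe_ps, pe] at h3
  rw [map_sub, Pi.sub_apply, rep_w cs hC, Mh_apply, Tt_sr', map_zsmul, Pi.smul_apply, smul_eq_mul, Mh_sr]
  by_cases hji : j = i
  · subst hji
    rw [if_pos rfl] at h3
    rw [sr_self]
    linear_combination h3
  · rw [if_neg hji, pe] at h3
    rw [sr_ne (Ne.symm hji)]
    linear_combination h3

end

theorem nat_not_dvd {r k e E m : ℕ} (hr : r.Prime) (hr2 : r ≠ 2) (h3 : e = 0 ∨ r ≠ 3) :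
    ¬ (r : ℤ) ∣ 2 ^ k * 3 ^ e * (2 ^ m) ^ E := by
  have hr' : Prime (r : ℤ) := Nat.prime_iff_prime_int.1 hr
  have h2 : ∀ n, ¬ (r : ℤ) ∣ 2 ^ n := fun n hn => hr2 ((Nat.prime_dvd_prime_iff_eq hr Nat.prime_two).1
    (Int.natCast_dvd_natCast.1 (by simpa using hr'.dvd_of_dvd_pow hn)))
  rw [hr'.dvd_mul, hr'.dvd_mul, ← pow_mul]
  rintro ((h | h) | h)
  · exact h2 _ h
  · rcases h3 with h3 | h3
    · rw [h3, pow_zero] at h
      exact hr'.not_dvd_one h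
    · exact h3 ((Nat.prime_dvd_prime_iff_eq hr Nat.prime_three).1
        (Int.natCast_dvd_natCast.1 (by simpa using hr'.dvd_of_dvd_pow h)))
  · exact h2 _ h

theorem vec_apply (r : ℕ) (i : Fin 4) : vec chevF4 4 r i = rt chevF4 r i := rfl

section

variable {W : Type*} [Group W] (cs : CoxeterSystem CoxeterMatrix.F₄ W) {d : TD}

/-- Every root has a functional prime to `r`. -/
theorem exists_root_fun (h4 : Ok4 d) {m r : ℕ} (hr : r.Prime) (hr2 : r ≠ 2) (h3 : d.me = 0 ∨ r ≠ 3)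
    (hd : (r : ℤ) ∣ pe (2 ^ m) d.N) {a : Fin 4 → ℤ} (ha : IsRoot cs hp.isCartan a) :
    ∃ u, ¬ (r : ℤ) ∣ Lc (2 ^ m) d.Q u a := by
  have key : ∀ s : Fin 24, ∃ u, ¬ (r : ℤ) ∣ Lc (2 ^ m) d.Q u (vec chevF4 4 (24 + s)) := by
    intro s
    obtain ⟨h5, h6⟩ := h4 s
    set c := d.R.getD s ⟨[], [], 0, 0, 0⟩
    refine ⟨fun i => c.u.getD i [], fun h7 => ?_⟩
    have h8 := pe_of_peq (2 ^ m) h5
    rw [pe_pa, pe_pm, pe_p4, pe_pmo] at h8
    simp only [pe_pm, pe_p4, pe_ps] at h8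
    have h9 : (r : ℤ) ∣ 2 ^ c.k * 3 ^ c.e * (2 ^ m) ^ c.E := by
      rw [← h8]
      exact dvd_add h7 (hd.mul_left _)
    exact nat_not_dvd hr hr2 (h3.imp_left fun h => by omega) h9
  obtain ⟨r0, hr0, rfl⟩ := (isRoot_iff hp cs a).1 ha
  have hr0' : r0 < 48 := hr0
  rcases Nat.lt_or_ge r0 24 with h | h
  · obtain ⟨u, hu⟩ := key ⟨23 - r0, by omega⟩
    refine ⟨u, fun hc => hu ?_⟩
    have e1 : (vec chevF4 4 (24 + ((⟨23 - r0, by omega⟩ : Fin 24) : ℕ)) : Fin 4 → ℤ) = - vec chevF4 4 r0 := by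
      funext i
      rw [Pi.neg_apply, vec_apply, vec_apply]
      have h5 := rt_neg ⟨23 - r0, by omega⟩ i
      have h6 : 23 - ((⟨23 - r0, by omega⟩ : Fin 24) : ℕ) = r0 := by show 23 - (23 - r0) = r0; omega
      rw [h6] at h5
      rw [h5, _root_.neg_neg]
    rw [e1, map_neg]
    exact (Int.dvd_neg).2 hc
  · obtain ⟨u, hu⟩ := key ⟨r0 - 24, by omega⟩
    refine ⟨u, ?_⟩
    have h6 : 24 + ((⟨r0 - 24, by omega⟩ : Fin 24) : ℕ) = r0 := by show 24 + (r0 - 24) = r0; omega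
    rwa [h6] at hu

variable {k : Type u} [Field k] [IsAlgClosed k] [CharP k 2]

/-- **Every root is nontrivial on the elements of order `r` of the twisted torus.** -/
theorem hroot (hC : ChainOK H493.PGF4T.Am d.C) (h1 : Ok1 d) (h4 : Ok4 d) {m r : ℕ} (hr : r.Prime) (hr2 : r ≠ 2)
    (h3 : d.me = 0 ∨ r ≠ 3) (hd : (r : ℤ) ∣ pe (2 ^ m) d.N) (a : Fin 4 → ℤ) (ha : IsRoot cs hp.isCartan a) :
    ∃ t ∈ TT chevF4 k, t ^ r = 1 ∧ InT cs m (TD.w cs d) t ∧ cX hp t a ≠ 1 := by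
  obtain ⟨u, hu⟩ := exists_root_fun cs h4 hr hr2 h3 hd ha
  have hrk : (r : k) ≠ 0 := by
    rw [Ne, CharP.cast_eq_zero_iff k 2]
    intro h
    exact hr2 ((Nat.prime_dvd_prime_iff_eq Nat.prime_two hr).1 h).symm
  have : NeZero (r : k) := ⟨hrk⟩
  obtain ⟨ζ, hζ⟩ := HasEnoughRootsOfUnity.exists_primitiveRoot k r
  obtain ⟨t, ht, h5, h6⟩ := exists_tw (k := k) cs m (TD.w cs d) hζ hr.ne_zero (Lc (2 ^ m) d.Q u) fun x =>
    hd.trans (Lc_adapted cs hC h1 _ u x)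
  refine ⟨t, ht, ?_, h5, ?_⟩
  · refine cX_inj hp (pow_mem ht r) (one_mem _) fun i => ?_
    rw [cX_pow hp ht, cX_one, h6, ← zpow_natCast, ← zpow_mul, hζ.zpow_eq_one_iff_dvd]
    exact dvd_mul_left _ _
  · rw [h6, Ne, hζ.zpow_eq_one_iff_dvd]
    exact hu

/-- **The exponent of the twisted torus.** -/
theorem expo (hC : ChainOK H493.PGF4T.Am d.C) (h2 : Ok2 d) {m N : ℕ} (hN : (N : ℤ) = pe (2 ^ m) d.N)
    (t : ↥(chevF4.group k)) (ht : t ∈ TT chevF4 k) (hI : InT cs m (TD.w cs d) t) : t ^ N = 1 := by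
  refine cX_inj hp (pow_mem ht N) (one_mem _) fun i => ?_
  have hmc := isMC_cX hp ht
  rw [cX_pow hp ht, cX_one]
  have h3 := hI (Mh (2 ^ m) d.Y (sr i))
  rw [wY cs hC h2, hmc.add, ← hN, hmc.zsmul, zpow_natCast] at h3
  exact (mul_eq_left₀ (hmc.ne_zero _)).1 h3

end

end Cfsg.Agent.H759.TwF
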