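import Cfsg.Agent.H759.TwF.Tor

/-!
# Two criteria for `Cond` to fail in `²F₄(q)` (helper759)
-/

set_option autoImplicit false
set_option linter.unusedSectionVars false

namespace Cfsg.Agent.H759.TwF

open CoxeterSystem Cfsg Cfsg.Lie Cfsg.Lie.ChevalleyDatum
open Cfsg.Agent.ChevalleyStructure Cfsg.Agent.ChevalleyStructure.Elts Cfsg.Agent.ChevalleyStructure.CoxeterGeom
  Cfsg.Agent.ChevalleyStructure.CoxeterGeomTypes Cfsg.Agent.ChevalleyStructure.NPerm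
open Cfsg.Agent.Tits.Roots Cfsg.Agent.Tits.Core Cfsg.Agent.Nodes Cfsg.Agent.Nodes.Reps Cfsg.Agent.Nodes.BNOf
  Cfsg.Agent.Nodes.RGDChev
open Cfsg.Agent.KFacts.RgdField Cfsg.Agent.KFacts.RgdChevCoord Cfsg.Agent.BpExc.TorCent Cfsg.Agent.BpExc.TorChev
open Cfsg.Agent.GpExc.Field Cfsg.Agent.BpExc.Tow Cfsg.Agent.BpExc.TowChev
  Cfsg.Agent.BpExc.LangFr Cfsg.Agent.BpExc Cfsg.Agent.H129.TorusChar Cfsg.Agent.H129.TorusUntw
open Cfsg.Agent.H493.F4End Cfsg.Agent.H493.F4Tor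
open Cfsg.Agent.H630.NH Cfsg.Agent.H630.Exc

universe u v

section

variable {K : Type u} [Field K] [Fintype K] [CharP K 2] {m : ℕ} (hK : Fintype.card K = 2 ^ (2 * m + 1))
  {k : Type u} [Field k] [IsAlgClosed k] [CharP k 2] (f : K →+* k) (hk : LocFin k) {W : Type*} [Group W] [Finite W]
  (cs : CoxeterSystem CoxeterMatrix.F₄ W) {hN : NSys CoxeterMatrix.F₄ (TT chevF4 k) (nc hp k)} {w : W}
  {n z : ↥(chevF4.group k)} (hn : Rp cs hN w n) (hz : n = z⁻¹ * ste k m z)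

include hK hz

/-- `z⁻¹ e(x) z` is fixed by `t ↦ n ste(t) n⁻¹`. -/
theorem tau (x : ↥(twistedF4 K (2 ^ m))) : n * ste k m (z⁻¹ * eF m f x * z) * n⁻¹ = z⁻¹ * eF m f x * z := by
  rw [map_mul, map_mul, map_inv, ste_eF hK f x, hz]
  group

theorem exists_of_tau {t : ↥(chevF4.group k)} (ht : n * ste k m t * n⁻¹ = t) :
    ∃ x : ↥(twistedF4 K (2 ^ m)), z⁻¹ * eF m f x * z = t := by
  have h1 : ste k m (z * t * z⁻¹) = z * t * z⁻¹ := by
    have h2 : ste k m z = z * n := by rw [hz]; group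
    rw [map_mul, map_mul, map_inv, h2]
    calc z * n * ste k m t * (z * n)⁻¹ = z * (n * ste k m t * n⁻¹) * z⁻¹ := by group
      _ = z * t * z⁻¹ := by rw [ht]
  obtain ⟨x, hx⟩ := exists_eF hK f h1
  exact ⟨x, by rw [hx]; group⟩

include hk hn

/-- The elements of order `s` commuting with the elements of order `r` of the torus lie in the torus. -/
theorem mem_torus {r s : ℕ} (hrp : r.Prime) (hsp : s.Prime) (hrs : r ≠ s)
    (hroot : ∀ a, IsRoot cs hp.isCartan a → ∃ t ∈ TT chevF4 k, t ^ r = 1 ∧ InT cs m w t ∧ cX hp t a ≠ 1)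
    {y : ↥(twistedF4 K (2 ^ m))} (hy : orderOf y = s)
    (hyc : ∀ x ∈ tXr hp (eF_injective (m := m) f) z r, x * y = y * x) : z⁻¹ * eF m f y * z ∈ TT chevF4 k := by
  have : Fact (Nat.Prime 2) := ⟨Nat.prime_two⟩
  set A : Set ↥(chevF4.group k) := {t | (t ∈ TT chevF4 k ∧ t ^ r = 1) ∧ InT cs m w t} with hA
  have hAf : A.Finite := (finite_torsion hp hrp.pos).subset fun t ht => ht.1
  have hcomm : ∀ t ∈ A, (z⁻¹ * eF m f y * z) * t = t * (z⁻¹ * eF m f y * z) := by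
    rintro t ⟨⟨ht, htr⟩, htθ⟩
    obtain ⟨x, hx⟩ := exists_of_tau hK f hz ((tau_iff cs hk hn ht).2 htθ)
    have hxr : x ^ r = 1 := by
      apply eF_injective f
      rw [map_pow, map_one]
      have h1 : eF m f x = z * t * z⁻¹ := by rw [← hx]; group
      rw [h1, conj_pow, htr]; group
    have h2 := hyc x ⟨by rw [mem_tX, hx]; exact ht, hxr⟩
    rw [← hx]
    calc z⁻¹ * eF m f y * z * (z⁻¹ * eF m f x * z) = z⁻¹ * (eF m f (y * x)) * z := by rw [map_mul]; group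
      _ = z⁻¹ * (eF m f (x * y)) * z := by rw [h2]
      _ = _ := by rw [map_mul]; group
  have hcs : (z⁻¹ * eF m f y * z) ^ s = 1 := by
    have h1 : (z⁻¹ * eF m f y * z) ^ s = z⁻¹ * eF m f y ^ s * z := by
      have h2 := conj_pow (i := s) (a := z⁻¹) (b := eF m f y)
      rwa [inv_inv] at h2
    rw [h1, ← map_pow, ← hy, pow_orderOf_eq_one, map_one, mul_one, inv_mul_cancel]
  exact mem_TT_of_pow hp cs hk 2 hN hAf (fun t ht => ht.1.1) (fun a ha => by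
    obtain ⟨t, ht, h1, h2, h3⟩ := hroot a ha
    exact ⟨t, ⟨⟨ht, h1⟩, h2⟩, h3⟩) (r := r) (fun t ht => ht.1.2) hsp.pos
    ((Nat.coprime_primes hsp hrp).2 (Ne.symm hrs)) hcomm hcs

omit hk hn hz hK in
theorem eq_one_of_conj {y : ↥(twistedF4 K (2 ^ m))} (h : z⁻¹ * eF m f y * z = 1) : y = 1 := by
  have h4 : eF m f y = 1 := by
    have : eF m f y = z * (z⁻¹ * eF m f y * z) * z⁻¹ := by group
    rw [this, h]; group
  exact eF_injective f (by rw [h4, map_one])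

include f in
/-- **Theorem A.** -/
theorem not_cond_A {π : Set ℕ} {r s : ℕ} (hrp : r.Prime) (hsp : s.Prime) (hr : r ∈ π) (hs : s ∈ π) (hrs : r ≠ s)
    (hsX : s ∣ Nat.card ↥(twistedF4 K (2 ^ m)))
    (hroot : ∀ a, IsRoot cs hp.isCartan a → ∃ t ∈ TT chevF4 k, t ^ r = 1 ∧ InT cs m w t ∧ cX hp t a ≠ 1)
    {N : ℕ} (hNt : ∀ t ∈ TT chevF4 k, InT cs m w t → t ^ N = 1) (hsN : ¬ s ∣ N) :
    ¬ Cond π ↥(twistedF4 K (2 ^ m)) := by
  have : Fact r.Prime := ⟨hrp⟩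
  have : Fact s.Prime := ⟨hsp⟩
  refine not_cond_of_centralizer hr hs hrs hsX (tXr hp (eF_injective (m := m) f) z r) ?_ ?_
  · rintro ⟨x, hx⟩
    exact ⟨1, Subtype.ext (by rw [pow_one]; exact hx.2)⟩
  · intro y hy hyc
    have hcT := mem_torus hK f hk cs hn hz hrp hsp hrs hroot hy hyc
    have hcs : (z⁻¹ * eF m f y * z) ^ s = 1 := by
      have h1 : (z⁻¹ * eF m f y * z) ^ s = z⁻¹ * eF m f y ^ s * z := by
        have h2 := conj_pow (i := s) (a := z⁻¹) (b := eF m f y)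
        rwa [inv_inv] at h2
      rw [h1, ← map_pow, ← hy, pow_orderOf_eq_one, map_one, mul_one, inv_mul_cancel]
    have hcN := hNt _ hcT ((tau_iff cs hk hn hcT).1 (tau hK f hz y))
    have h1 : orderOf (z⁻¹ * eF m f y * z) ∣ 1 := by
      have h2 := Nat.dvd_gcd (orderOf_dvd_of_pow_eq_one hcs) (orderOf_dvd_of_pow_eq_one hcN)
      rwa [((Nat.Prime.coprime_iff_not_dvd hsp).2 hsN).gcd_eq_one] at h2
    have h3 : z⁻¹ * eF m f y * z = 1 := orderOf_eq_one_iff.1 (Nat.dvd_one.1 h1)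
    have h5 := eq_one_of_conj f h3
    rw [h5, orderOf_one] at hy
    exact hsp.one_lt.ne hy

end

end Cfsg.Agent.H759.TwF
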