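import Cfsg.Agent.H759.TwF.Chk

/-!
# The tori of `²F₄(q)`: data (helper759)

`q = 2 b²`; the orders of the tori are the squares of `q - 1` (`A`), `q + 1` (`B`), `q ± 2b + 1` (`Cp`, `Cm`), and
`q² - q + 1` (`D`), `q² ± 2bq + q ± 2b + 1` (`Ep`, `Em`).
-/

set_option autoImplicit false

namespace Cfsg.Agent.H759.TwF

open Cfsg.Agent.H129.WData

/-- the torus `A` -/
def tdA : TD where
  C := []
  N := [-1, 0, 2]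
  Q := ![![[-1], [], [], [0, -1]],
    ![[], [-1], [0, -1], []],
    ![[], [0, -2], [-1], []],
    ![[0, -2], [], [], [-1]]]
  Y := ![![[-1], [], [], [0, -1]],
    ![[], [-1], [0, -1], []],
    ![[], [0, -2], [-1], []],
    ![[0, -2], [], [], [-1]]]
  me := 0
  R := [
    ⟨[[-1], [], [], []], [], 1, 0, 1⟩,
    ⟨[[], [-1], [], []], [], 1, 0, 1⟩,
    ⟨[[-1], [], [], []], [], 1, 0, 1⟩,
    ⟨[[], [-1], [], []], [], 0, 0, 0⟩,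
    ⟨[[], [], [-1, 1], []], [1], 0, 0, 2⟩,
    ⟨[[-1], [], [], []], [], 1, 0, 1⟩,
    ⟨[[], [-1, 1], [], []], [2], 1, 0, 2⟩,
    ⟨[[-1], [], [], []], [], 1, 0, 1⟩,
    ⟨[[-1], [], [], []], [], 1, 0, 1⟩,
    ⟨[[-1], [], [], []], [], 0, 0, 0⟩,
    ⟨[[-1], [], [], []], [], 0, 0, 0⟩,
    ⟨[[-1], [], [], []], [], 0, 0, 0⟩,
    ⟨[[], [], [-1, 1], []], [1], 0, 0, 2⟩,
    ⟨[[-1], [], [], []], [], 0, 0, 0⟩,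
    ⟨[[], [], [], [-1, 1]], [1], 0, 0, 2⟩,
    ⟨[[], [], [], [-1, 1]], [1], 0, 0, 2⟩,
    ⟨[[], [], [], [-1, 1]], [1], 0, 0, 2⟩,
    ⟨[[-1], [], [], []], [], 1, 0, 0⟩,
    ⟨[[-1, 1], [], [], []], [2], 1, 0, 2⟩,
    ⟨[[-1, 1], [], [], []], [2], 1, 0, 2⟩,
    ⟨[[-1, 1], [], [], []], [2], 1, 0, 2⟩,
    ⟨[[-1, 1], [], [], []], [2], 1, 0, 2⟩,
    ⟨[[-1, 1], [], [], []], [2], 1, 0, 2⟩,
    ⟨[[], [], [], [-1, 1]], [2], 1, 0, 2⟩]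

/-- the torus `B` -/
def tdB : TD where
  C := [(0, ![![0, -1, 0, 0], ![-1, -1, -1, -1], ![0, 0, 0, 1], ![2, 4, 3, 1]]),
    (1, ![![-1, -1, 0, 0], ![0, -1, -1, -1], ![0, 0, 0, 1], ![2, 4, 3, 1]]),
    (2, ![![-1, 0, 0, 0], ![0, -1, -1, -1], ![0, 0, 0, 1], ![2, 4, 3, 1]]),
    (3, ![![-1, 0, 0, 0], ![0, -1, -1, -1], ![0, 0, 1, 1], ![2, 4, 2, 1]]),
    (1, ![![-1, 0, 0, 0], ![0, -1, -1, 0], ![0, 0, 1, 0], ![2, 4, 2, 1]]),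
    (2, ![![-1, -1, 0, 0], ![0, -1, -1, 0], ![0, 2, 1, 0], ![2, 2, 2, 1]]),
    (0, ![![-1, -1, -1, 0], ![0, -1, 0, 0], ![0, 2, 1, 0], ![2, 2, 1, 1]]),
    (1, ![![0, -1, -1, 0], ![-1, -1, 0, 0], ![2, 2, 1, 0], ![0, 2, 1, 1]]),
    (2, ![![0, -1, -1, 0], ![-1, 0, 0, 0], ![2, 2, 1, 0], ![0, 0, 1, 1]]),
    (0, ![![0, -1, 0, 0], ![-1, 0, 0, 0], ![2, 2, 1, 0], ![0, 0, 0, 1]]),
    (1, ![![-1, -1, 0, 0], ![1, 0, 0, 0], ![0, 2, 1, 0], ![0, 0, 0, 1]]),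
    (0, ![![-1, 0, 0, 0], ![1, 1, 0, 0], ![0, 0, 1, 0], ![0, 0, 0, 1]])]
  N := [1, 0, 2]
  Q := ![![[1, -2], [0, -4], [0, -3], [0, -1]],
    ![[], [1], [], [0, -1]],
    ![[0, 2], [0, 2], [1, 2], [0, 2]],
    ![[], [0, 2], [], [1]]]
  Y := ![![[-1], [-3], [-2], [-1, -1]],
    ![[-1], [], [0, -1], []],
    ![[2], [2, -2], [1], [1]],
    ![[0, -2], [], [1], []]]
  me := 0
  R := [
    ⟨[[], [1], [], []], [], 1, 0, 1⟩,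
    ⟨[[1], [], [], []], [], 1, 0, 1⟩,
    ⟨[[1], [], [], []], [], 1, 0, 1⟩,
    ⟨[[], [1], [], []], [], 0, 0, 0⟩,
    ⟨[[1], [], [], []], [], 1, 0, 1⟩,
    ⟨[[1], [], [], []], [], 1, 0, 1⟩,
    ⟨[[1], [], [], []], [], 1, 0, 1⟩,
    ⟨[[1], [], [], []], [], 1, 0, 1⟩,
    ⟨[[1], [], [], []], [], 2, 0, 1⟩,
    ⟨[[], [-1], [], []], [], 2, 0, 1⟩,
    ⟨[[], [], [], [-1]], [], 1, 0, 1⟩,
    ⟨[[1], [], [], []], [], 0, 0, 0⟩,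
    ⟨[[1], [], [], []], [], 0, 0, 0⟩,
    ⟨[[1], [], [], []], [], 0, 0, 0⟩,
    ⟨[[1], [], [], []], [], 0, 0, 0⟩,
    ⟨[[1], [], [], [-1]], [], 0, 0, 1⟩,
    ⟨[[], [], [], [1]], [], 0, 0, 0⟩,
    ⟨[[], [], [], [-1]], [], 1, 0, 1⟩,
    ⟨[[1], [-1], [], []], [], 1, 0, 1⟩,
    ⟨[[1], [], [], []], [], 1, 0, 0⟩,
    ⟨[[1], [], [], []], [], 1, 0, 0⟩,
    ⟨[[1], [], [], []], [], 1, 0, 0⟩,
    ⟨[[], [1], [], []], [], 2, 0, 0⟩,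
    ⟨[[], [], [], [1]], [], 1, 0, 0⟩]

/-- the torus `Cp` -/
def tdCp : TD where
  C := [(0, ![![-1, -1, -1, -1], ![0, -1, -1, 0], ![0, 0, 1, 0], ![0, 2, 1, 1]]),
    (1, ![![0, -1, -1, -1], ![-1, -1, -1, 0], ![0, 0, 1, 0], ![2, 2, 1, 1]]),
    (2, ![![0, -1, -1, -1], ![-1, -2, -1, 0], ![0, 2, 1, 0], ![2, 2, 1, 1]]),
    (3, ![![0, -1, -1, -1], ![-1, -2, -1, 0], ![0, 2, 1, 0], ![2, 2, 2, 1]]),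
    (1, ![![0, -1, -1, 0], ![-1, -2, -1, -1], ![0, 2, 1, 1], ![2, 2, 2, 1]]),
    (2, ![![0, -1, -1, 0], ![-1, -1, -1, -1], ![0, 0, 1, 1], ![2, 4, 2, 1]]),
    (0, ![![0, -1, 0, 0], ![-1, -1, -1, -1], ![0, 0, 0, 1], ![2, 4, 3, 1]]),
    (1, ![![-1, -1, 0, 0], ![0, -1, -1, -1], ![0, 0, 0, 1], ![2, 4, 3, 1]]),
    (2, ![![-1, 0, 0, 0], ![0, -1, -1, -1], ![0, 0, 0, 1], ![2, 4, 3, 1]]),
    (3, ![![-1, 0, 0, 0], ![0, -1, -1, -1], ![0, 0, 1, 1], ![2, 4, 2, 1]]),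
    (1, ![![-1, 0, 0, 0], ![0, -1, -1, 0], ![0, 0, 1, 0], ![2, 4, 2, 1]]),
    (2, ![![-1, -1, 0, 0], ![0, -1, -1, 0], ![0, 2, 1, 0], ![2, 2, 2, 1]]),
    (0, ![![-1, -1, -1, 0], ![0, -1, 0, 0], ![0, 2, 1, 0], ![2, 2, 1, 1]]),
    (1, ![![0, -1, -1, 0], ![-1, -1, 0, 0], ![2, 2, 1, 0], ![0, 2, 1, 1]]),
    (2, ![![0, -1, -1, 0], ![-1, 0, 0, 0], ![2, 2, 1, 0], ![0, 0, 1, 1]]),
    (0, ![![0, -1, 0, 0], ![-1, 0, 0, 0], ![2, 2, 1, 0], ![0, 0, 0, 1]]),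
    (1, ![![-1, -1, 0, 0], ![1, 0, 0, 0], ![0, 2, 1, 0], ![0, 0, 0, 1]]),
    (0, ![![-1, 0, 0, 0], ![1, 1, 0, 0], ![0, 0, 1, 0], ![0, 0, 0, 1]])]
  N := [1, 2, 2]
  Q := ![![[1], [0, -2], [0, -1], [0, -1]],
    ![[], [1], [0, -1], []],
    ![[], [0, 2], [1, 2], []],
    ![[0, 2], [0, 2], [0, 2], [1, 2]]]
  Y := ![![[-1], [-1], [-1], [-1, -1]],
    ![[], [-1], [-1, -1], []],
    ![[], [0, -2], [1], []],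
    ![[0, -2], [2], [1], [1]]]
  me := 0
  R := [
    ⟨[[1], [], [], []], [], 1, 0, 1⟩,
    ⟨[[], [1], [], []], [], 1, 0, 1⟩,
    ⟨[[1], [], [], []], [], 1, 0, 1⟩,
    ⟨[[], [1], [], []], [], 0, 0, 0⟩,
    ⟨[[], [-1], [], []], [1], 1, 0, 2⟩,
    ⟨[[1], [], [], []], [], 1, 0, 1⟩,
    ⟨[[], [], [1], []], [], 0, 0, 0⟩,
    ⟨[[1], [], [], []], [], 1, 0, 1⟩,
    ⟨[[1], [], [], []], [], 1, 0, 1⟩,
    ⟨[[1], [], [], []], [], 0, 0, 0⟩,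
    ⟨[[1], [], [], []], [], 0, 0, 0⟩,
    ⟨[[1], [], [], []], [], 0, 0, 0⟩,
    ⟨[[-1], [], [], []], [1], 1, 0, 2⟩,
    ⟨[[1], [], [], []], [], 0, 0, 0⟩,
    ⟨[[-1], [], [], []], [1], 1, 0, 2⟩,
    ⟨[[-1], [], [], []], [1], 1, 0, 2⟩,
    ⟨[[-1], [], [], []], [1], 1, 0, 2⟩,
    ⟨[[1], [], [], []], [], 1, 0, 0⟩,
    ⟨[[], [1], [], []], [], 1, 0, 0⟩,
    ⟨[[], [], [], [1]], [], 0, 0, 0⟩,
    ⟨[[], [], [], [1]], [], 0, 0, 0⟩,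
    ⟨[[], [], [1], []], [], 1, 0, 0⟩,
    ⟨[[], [], [], [1]], [], 0, 0, 0⟩,
    ⟨[[-1], [], [], []], [2], 2, 0, 2⟩]

/-- the torus `Cm` -/
def tdCm : TD where
  C := [(0, ![![-1, -1, -1, 0], ![0, -1, 0, 0], ![0, 2, 1, 0], ![2, 2, 1, 1]]),
    (1, ![![0, -1, -1, 0], ![-1, -1, 0, 0], ![2, 2, 1, 0], ![0, 2, 1, 1]]),
    (2, ![![0, -1, -1, 0], ![-1, 0, 0, 0], ![2, 2, 1, 0], ![0, 0, 1, 1]]),
    (0, ![![0, -1, 0, 0], ![-1, 0, 0, 0], ![2, 2, 1, 0], ![0, 0, 0, 1]]),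
    (1, ![![-1, -1, 0, 0], ![1, 0, 0, 0], ![0, 2, 1, 0], ![0, 0, 0, 1]]),
    (0, ![![-1, 0, 0, 0], ![1, 1, 0, 0], ![0, 0, 1, 0], ![0, 0, 0, 1]])]
  N := [1, -2, 2]
  Q := ![![[1, -2], [0, -2], [0, -1], [0, -1]],
    ![[], [1, -2], [0, -1], []],
    ![[], [0, 2], [1], []],
    ![[0, 2], [0, 2], [0, 2], [1]]]
  Y := ![![[-1], [-1], [-1], [0, -1]],
    ![[], [-1], [0, -1], []],
    ![[], [2, -2], [1], []],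
    ![[2, -2], [2], [1], [1]]]
  me := 0
  R := [
    ⟨[[1], [], [], []], [], 1, 0, 1⟩,
    ⟨[[], [1], [], []], [], 1, 0, 1⟩,
    ⟨[[1], [], [], []], [], 1, 0, 1⟩,
    ⟨[[], [], [-1], []], [], 0, 0, 1⟩,
    ⟨[[], [1], [], []], [], 0, 0, 0⟩,
    ⟨[[1], [], [], []], [], 1, 0, 1⟩,
    ⟨[[], [], [-1], []], [1], 1, 0, 2⟩,
    ⟨[[1], [], [], []], [], 1, 0, 1⟩,
    ⟨[[1], [], [], []], [], 1, 0, 1⟩,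
    ⟨[[], [-1], [], []], [], 1, 0, 1⟩,
    ⟨[[], [], [-1], []], [], 1, 0, 1⟩,
    ⟨[[], [], [], [-1]], [], 0, 0, 1⟩,
    ⟨[[1], [], [], []], [], 0, 0, 0⟩,
    ⟨[[], [], [], [-1]], [], 0, 0, 1⟩,
    ⟨[[1], [], [], []], [], 0, 0, 0⟩,
    ⟨[[1], [], [], []], [], 0, 0, 0⟩,
    ⟨[[1], [], [], []], [], 0, 0, 0⟩,
    ⟨[[], [], [], [-1]], [], 1, 0, 1⟩,
    ⟨[[], [], [-1], []], [1], 1, 0, 2⟩,
    ⟨[[], [], [], [-1]], [1], 1, 0, 2⟩,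
    ⟨[[], [], [], [-1]], [1], 1, 0, 2⟩,
    ⟨[[], [], [], [-1]], [1], 1, 0, 2⟩,
    ⟨[[], [], [], [-1]], [1], 1, 0, 2⟩,
    ⟨[[1], [], [], []], [], 1, 0, 0⟩]

/-- the torus `D` -/
def tdD : TD where
  C := [(0, ![![1, 2, 1, 0], ![-1, -1, -1, 0], ![0, 0, 1, 0], ![2, 2, 1, 1]]),
    (1, ![![1, 2, 1, 0], ![0, -1, -1, 0], ![0, 0, 1, 0], ![0, 2, 1, 1]]),
    (2, ![![1, 1, 1, 0], ![0, -1, -1, 0], ![0, 2, 1, 0], ![0, 0, 1, 1]]),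
    (1, ![![1, 1, 0, 0], ![0, -1, 0, 0], ![0, 2, 1, 0], ![0, 0, 0, 1]])]
  N := [1, 0, -2, 0, 4]
  Q := ![![[1, 0, -4, -4], [0, -2, -6, -4], [0, -2, -4, -2], [0, -1, -2, -2]],
    ![[0, 0, 2], [1, 0, 2], [0, 1, 2, -2], [0, 1]],
    ![[0, 0, 0, 4], [0, 2, 0, 4], [1, 0, 0, 4], [0, 0, 2]],
    ![[0, 2, 0, -4], [0, 2, 0, -8], [0, 2, -2, -4], [1, 0, -2]]]
  Y := ![![[-1, -2, -2], [-2, -4, -2], [-1, -3, -2], [0, -1, -2, -2]],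
    ![[1], [1, 2, -2], [0, 2, 0, -2], [0, 1]],
    ![[0, 2], [0, 2, 4, -4], [1, 0, 2], [0, 0, 2]],
    ![[0, 0, 0, -4], [2, -2, -4], [1, 0, -4], [1, 0, -2]]]
  me := 1
  R := [
    ⟨[[], [], [], [-1]], [1], 2, 0, 4⟩,
    ⟨[[1], [], [], []], [], 2, 0, 3⟩,
    ⟨[[1], [], [], []], [], 1, 0, 1⟩,
    ⟨[[1], [], [], []], [], 1, 0, 2⟩,
    ⟨[[], [-1, 2], [], []], [1], 2, 1, 4⟩,
    ⟨[[], [-1, 1], [], []], [1, 3], 2, 1, 5⟩,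
    ⟨[[], [], [], [-1, 1, 1, -1]], [0, 2], 1, 1, 5⟩,
    ⟨[[], [], [-1, 1], []], [1, 3], 2, 1, 5⟩,
    ⟨[[], [], [], [1, -1, -2, 4]], [-1, -1], 2, 0, 5⟩,
    ⟨[[], [], [], [-1, 1, 2, -4]], [0, -1, -1], 2, 0, 6⟩,
    ⟨[[], [], [], [1, -1, -1, 1]], [0, 0, 2], 1, 1, 6⟩,
    ⟨[[], [], [], [-1]], [], 1, 0, 3⟩,
    ⟨[[], [1, -2], [], []], [-1, 0, 6], 3, 1, 6⟩,
    ⟨[[1], [], [], []], [], 0, 0, 0⟩,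
    ⟨[[], [-1, 0, 2, -4], [], []], [2, 2, -2], 3, 1, 6⟩,
    ⟨[[], [], [-1, 1], []], [2], 1, 1, 4⟩,
    ⟨[[], [], [], [1, -2, 0, 2]], [-1, 0, 2], 2, 0, 6⟩,
    ⟨[[], [1, -2], [], []], [-2, 6], 3, 1, 5⟩,
    ⟨[[-1, 2, -2], [], [], []], [2, -2], 3, 0, 5⟩,
    ⟨[[], [], [], [-1, 1, 1, -4]], [1, -1, -1], 2, 1, 6⟩,
    ⟨[[], [], [], [-1, 2, -2]], [1, -1], 2, 0, 5⟩,
    ⟨[[], [-1, 1, 0, -2], [], []], [4, -2, 2], 3, 1, 6⟩,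
    ⟨[[], [-1, 1], [], []], [4], 2, 1, 4⟩,
    ⟨[[], [], [], [-1, 2, -2]], [2, -2, 2], 3, 0, 6⟩]

/-- the torus `Ep` -/
def tdEp : TD where
  C := [(0, ![![-1, -2, -1, -1], ![-1, -1, -1, 0], ![2, 2, 2, 1], ![0, 2, 1, 0]]),
    (1, ![![-1, -2, -1, -1], ![0, -1, -1, 0], ![0, 2, 2, 1], ![2, 2, 1, 0]]),
    (2, ![![-1, -1, -1, -1], ![0, -1, -1, 0], ![0, 2, 2, 1], ![2, 2, 1, 0]]),
    (3, ![![-1, -1, -1, -1], ![0, -1, 0, 0], ![0, 2, 1, 1], ![2, 2, 1, 0]]),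
    (0, ![![-1, -1, -1, 0], ![0, -1, 0, 0], ![0, 2, 1, 0], ![2, 2, 1, 1]]),
    (1, ![![0, -1, -1, 0], ![-1, -1, 0, 0], ![2, 2, 1, 0], ![0, 2, 1, 1]]),
    (2, ![![0, -1, -1, 0], ![-1, 0, 0, 0], ![2, 2, 1, 0], ![0, 0, 1, 1]]),
    (0, ![![0, -1, 0, 0], ![-1, 0, 0, 0], ![2, 2, 1, 0], ![0, 0, 0, 1]]),
    (1, ![![-1, -1, 0, 0], ![1, 0, 0, 0], ![0, 2, 1, 0], ![0, 0, 0, 1]]),
    (0, ![![-1, 0, 0, 0], ![1, 1, 0, 0], ![0, 0, 1, 0], ![0, 0, 0, 1]])]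
  N := [1, 2, 2, 4, 4]
  Q := ![![[1, 0, -2], [0, -2, -6, -4], [0, -2, -4, -2], [0, -1, -2]],
    ![[0, 0, -2, -4], [1, 0, -4, -4], [0, -1, -4, -4], [0, -1, -2, -2]],
    ![[0, 2, 4, 4], [0, 4, 8, 4], [1, 4, 6, 4], [0, 2, 2]],
    ![[0, 0, 4, 4], [0, 2, 8, 8], [0, 2, 6, 4], [1, 2, 4, 4]]]
  Y := ![![[-1, -2], [-2, -4, -2], [-1, -3, -2], [-1, -2, -2, -2]],
    ![[-1, -2, -2], [-1, -4, -4], [-1, -3, -4, -2], [0, -1, -2]],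
    ![[2, 2], [2, 4, 0, -4], [2, 4, 2], [1, 2, 2]],
    ![[0, 2, 0, -4], [2, 6, 4], [1, 4, 4], [0, 2, 2]]]
  me := 0
  R := [
    ⟨[[-1, -1, -1, -3], [], [], []], [0, 0, 4], 2, 0, 6⟩,
    ⟨[[], [], [1, -1, 2], []], [-1, -1], 2, 0, 5⟩,
    ⟨[[], [], [], [1, -1, 2]], [-1, -1], 2, 0, 5⟩,
    ⟨[[1, 0, 2], [], [], []], [0, 0, 2], 3, 0, 6⟩,
    ⟨[[-1, -1, -1, -3], [], [], []], [0, 2], 1, 0, 5⟩,
    ⟨[[], [], [-3, 2, -6], []], [3, 7], 2, 0, 5⟩,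
    ⟨[[], [], [], [1, 0, 2]], [0, 0, 2], 3, 0, 6⟩,
    ⟨[[-1, 0, -2], [], [], []], [0, 2], 3, 0, 5⟩,
    ⟨[[2, 1, 2, 5], [], [], []], [0, -8, -4], 2, 0, 6⟩,
    ⟨[[], [], [], [1, 0, 2]], [0, 1], 2, 0, 5⟩,
    ⟨[[], [], [], [-2, -1, -2, -5]], [0, -4, -2], 1, 0, 6⟩,
    ⟨[[-1, 0, -2], [], [], []], [1], 2, 0, 4⟩,
    ⟨[[], [1, -1, 2], [], []], [-1, -1], 2, 0, 5⟩,
    ⟨[[], [], [], [3, 1, 4, 6]], [0, 3, 7], 2, 0, 6⟩,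
    ⟨[[], [], [], [-1, -1, -1, -3]], [1], 0, 0, 4⟩,
    ⟨[[1, -1, 2], [], [], []], [-1, -1], 2, 0, 5⟩,
    ⟨[[], [], [], [-1, -2, 0, -6]], [1, 2, -2], 2, 0, 6⟩,
    ⟨[[-1, 1, -2], [], [], []], [2, -4, 2], 3, 0, 6⟩,
    ⟨[[-1, -1, -1, -3], [], [], []], [2], 1, 0, 4⟩,
    ⟨[[], [], [], [-1, 0, -2]], [1], 2, 0, 4⟩,
    ⟨[[], [], [], [-1, 1, -2]], [1, -2, 1], 2, 0, 6⟩,
    ⟨[[-1, -2, 0, -6], [], [], []], [2, 4, -4], 3, 0, 6⟩,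
    ⟨[[], [], [], [3, 2, 3, 8]], [-3, -2, 9], 2, 0, 6⟩,
    ⟨[[], [], [], [2, 1, 2, 5]], [-4, -2], 1, 0, 5⟩]

/-- the torus `Em` -/
def tdEm : TD where
  C := [(0, ![![0, 1, 0, 0], ![-1, -1, 0, 0], ![2, 2, 1, 0], ![0, 0, 0, 1]]),
    (1, ![![1, 1, 0, 0], ![0, -1, 0, 0], ![0, 2, 1, 0], ![0, 0, 0, 1]])]
  N := [1, -2, 2, -4, 4]
  Q := ![![[1, -2], [0, 0, -2], [0, -1], [0, -1, 2, -2]],
    ![[0, 0, 2, -4], [1, -2, 2, -4], [0, 0, 0, -2], [0, 1, -2]],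
    ![[0, 0, 0, 4], [0, 2, 0, 4], [1, 0, 2], [0, 0, 2]],
    ![[0, 2, -4], [0, 0, 0, -4], [0, 0, -2], [1, -2]]]
  Y := ![![[-1, 2, -2], [-1], [0, -1], [0, -1, 2, -2]],
    ![[1, -2], [0, 0, -2], [0, 0, 0, -2], [0, 1, -2]],
    ![[0, 2], [2, 0, 4, -4], [1, 0, 2], [0, 0, 2]],
    ![[0, -2, 4, -4], [0, -2], [0, 0, -2], [1, -2]]]
  me := 0
  R := [
    ⟨[[], [-1], [], []], [], 2, 0, 3⟩,
    ⟨[[1], [], [], []], [], 2, 0, 3⟩,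
    ⟨[[], [1], [], []], [], 1, 0, 1⟩,
    ⟨[[], [], [-1], []], [], 1, 0, 3⟩,
    ⟨[[1], [], [], []], [], 1, 0, 2⟩,
    ⟨[[], [], [], [-1, 1, -1, 3]], [1], 0, 0, 4⟩,
    ⟨[[], [], [], [-1, 1, -1, 3]], [0, 2], 1, 0, 5⟩,
    ⟨[[], [], [-1], []], [1, 2, 2], 3, 0, 6⟩,
    ⟨[[1], [], [], []], [], 1, 0, 1⟩,
    ⟨[[], [-1], [], []], [], 1, 0, 2⟩,
    ⟨[[], [], [], [-1]], [], 1, 0, 3⟩,
    ⟨[[], [1], [], []], [], 0, 0, 0⟩,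
    ⟨[[], [], [-1], []], [1, 1], 2, 0, 5⟩,
    ⟨[[], [], [-1, 1, -2, 2], []], [1, 0, 3], 2, 0, 6⟩,
    ⟨[[], [], [], [-1]], [1, 1], 2, 0, 5⟩,
    ⟨[[1], [], [], []], [], 0, 0, 0⟩,
    ⟨[[], [], [-1, 1], []], [2, 1, 1], 2, 0, 6⟩,
    ⟨[[], [], [-1], []], [1], 2, 0, 4⟩,
    ⟨[[], [], [], [-1]], [1], 2, 0, 4⟩,
    ⟨[[-1, 1, -1, 3], [], [], []], [2], 1, 0, 4⟩,
    ⟨[[], [], [-1, 1], []], [2], 1, 0, 4⟩,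
    ⟨[[], [-1, 1], [], []], [4], 2, 0, 4⟩,
    ⟨[[], [], [], [-1, 1, -1, 2]], [1, 1, 3], 2, 0, 6⟩,
    ⟨[[], [], [-1, 1], []], [3, 1], 2, 0, 5⟩]

/-- all checks of a torus -/
def OkT (d : TD) : Prop := ChainOK H493.PGF4T.Am d.C ∧ Ok1 d ∧ Ok2 d ∧ Ok4 d

instance (d : TD) : Decidable (OkT d) := by unfold OkT; infer_instance

theorem okT_A : OkT tdA := by decide +kernel

theorem okT_B : OkT tdB := by decide +kernel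

theorem okT_Cp : OkT tdCp := by decide +kernel

theorem okT_Cm : OkT tdCm := by decide +kernel

theorem okT_D : OkT tdD := by decide +kernel

theorem okT_Ep : OkT tdEp := by decide +kernel

theorem okT_Em : OkT tdEm := by decide +kernel

theorem ok3_B : Ok3 tdB := by decide +kernel

/-- the certificate of the order: `L_c(sr U) + v N = 2^k b^E` -/
def OkO (d : TD) (c : Fin 4 → P) (U : Fin 4) (v : P) (k E : ℕ) : Prop :=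
  peq (pa (p4 fun i => pm (c i) (d.Q U i)) (pm v d.N)) (pmo (2 ^ k) E) = true

instance (d : TD) (c : Fin 4 → P) (U : Fin 4) (v : P) (k E : ℕ) : Decidable (OkO d c U v k E) := by
  unfold OkO; infer_instance

/-- vanishing of a functional -/
def OkZ (d : TD) (c : Fin 4 → P) (U : Fin 4) : Prop := peq (p4 fun i => pm (c i) (d.Q U i)) [] = true

instance (d : TD) (c : Fin 4 → P) (U : Fin 4) : Decidable (OkZ d c U) := by unfold OkZ; infer_instance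

theorem okO_A : OkO tdA ![[-1], [], [], []] 0 [] 0 0 := by decide +kernel

theorem okO2_A : OkO tdA ![[], [-1], [], []] 1 [] 0 0 := by decide +kernel

theorem okZ_A : OkZ tdA ![[], [-1], [], []] 0 := by decide +kernel

theorem okO_B : OkO tdB ![[], [1], [], []] 1 [] 0 0 := by decide +kernel

theorem okO2_B : OkO tdB ![[1], [], [], []] 2 [] 1 1 := by decide +kernel

theorem okZ_B : OkZ tdB ![[1], [], [], []] 1 := by decide +kernel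

theorem okO_Cp : OkO tdCp ![[1], [], [], []] 0 [] 0 0 := by decide +kernel

theorem okO2_Cp : OkO tdCp ![[0, 2], [1], [], []] 1 [] 0 0 := by decide +kernel

theorem okZ_Cp : OkZ tdCp ![[0, 2], [1], [], []] 0 := by decide +kernel

theorem okO_Cm : OkO tdCm ![[], [], [1], []] 2 [] 0 0 := by decide +kernel

theorem okO2_Cm : OkO tdCm ![[], [], [], [1]] 3 [] 0 0 := by decide +kernel

theorem okZ_Cm : OkZ tdCm ![[], [], [], [1]] 2 := by decide +kernel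

theorem okO_D : OkO tdD ![[1], [], [], []] 1 [] 1 2 := by decide +kernel

theorem okO_Ep : OkO tdEp ![[], [], [], [1, 0, 2]] 0 [0, 1] 2 5 := by decide +kernel

theorem okO_Em : OkO tdEm ![[], [-1], [], []] 0 [] 1 2 := by decide +kernel

/-- an element of order 3 of the Weyl group -/
def chS : List (Fin 4 × Mat 4) := [(0, ![![0, 1, 1, 1], ![1, 1, 1, 0], ![-2, -4, -3, -1], ![0, 2, 1, 0]]),
    (1, ![![1, 1, 1, 1], ![0, 1, 1, 0], ![-2, -4, -3, -1], ![2, 2, 1, 0]]),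
    (2, ![![1, 2, 1, 1], ![0, 1, 1, 0], ![-2, -4, -3, -1], ![2, 2, 1, 0]]),
    (3, ![![1, 2, 2, 1], ![0, 1, 0, 0], ![-2, -4, -2, -1], ![2, 2, 1, 0]]),
    (2, ![![1, 2, 2, 1], ![0, 1, 0, 0], ![-2, -4, -2, -1], ![2, 2, 1, 1]]),
    (1, ![![1, 2, 1, 1], ![0, 1, 1, 0], ![-2, -4, -3, -1], ![2, 2, 2, 1]]),
    (2, ![![1, 1, 1, 1], ![0, 1, 1, 0], ![-2, -4, -3, -1], ![2, 4, 2, 1]]),
    (0, ![![1, 1, 1, 1], ![0, 1, 0, 0], ![-2, -4, -2, -1], ![2, 4, 3, 1]]),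
    (1, ![![0, 1, 1, 1], ![1, 1, 0, 0], ![-2, -4, -2, -1], ![2, 4, 3, 1]]),
    (2, ![![0, 1, 1, 1], ![1, 0, 0, 0], ![-2, -2, -2, -1], ![2, 4, 3, 1]]),
    (3, ![![0, 1, 1, 1], ![1, 0, 0, 0], ![-2, -2, -1, -1], ![2, 4, 2, 1]]),
    (1, ![![0, 1, 1, 0], ![1, 0, 0, 0], ![-2, -2, -1, 0], ![2, 4, 2, 1]]),
    (2, ![![0, 1, 1, 0], ![1, 1, 0, 0], ![-2, -2, -1, 0], ![2, 2, 2, 1]]),
    (0, ![![0, 1, 0, 0], ![1, 1, 1, 0], ![-2, -2, -1, 0], ![2, 2, 1, 1]]),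
    (1, ![![1, 1, 0, 0], ![0, 1, 1, 0], ![0, -2, -1, 0], ![0, 2, 1, 1]]),
    (2, ![![1, 0, 0, 0], ![0, 1, 1, 0], ![0, 0, -1, 0], ![0, 0, 1, 1]])]

/-- its conjugate -/
def chS1 : List (Fin 4 × Mat 4) := [(2, ![![0, 1, 1, 0], ![-1, -3, -2, -1], ![0, 2, 1, 1], ![2, 2, 1, 0]]),
    (3, ![![0, 1, 0, 0], ![-1, -3, -2, -1], ![0, 2, 2, 1], ![2, 2, 1, 0]]),
    (2, ![![0, 1, 0, 0], ![-1, -3, -2, -1], ![0, 2, 2, 1], ![2, 2, 1, 1]]),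
    (1, ![![0, 1, 1, 0], ![-1, -3, -2, -1], ![0, 2, 1, 1], ![2, 2, 2, 1]]),
    (2, ![![0, 1, 1, 0], ![-1, -2, -2, -1], ![0, 0, 1, 1], ![2, 4, 2, 1]]),
    (0, ![![0, 1, 0, 0], ![-1, -2, -1, -1], ![0, 0, 0, 1], ![2, 4, 3, 1]]),
    (1, ![![1, 1, 0, 0], ![-1, -2, -1, -1], ![0, 0, 0, 1], ![2, 4, 3, 1]]),
    (2, ![![1, 0, 0, 0], ![-1, -1, -1, -1], ![0, 0, 0, 1], ![2, 4, 3, 1]]),
    (3, ![![1, 0, 0, 0], ![-1, -1, -1, -1], ![0, 0, 1, 1], ![2, 4, 2, 1]]),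
    (1, ![![1, 0, 0, 0], ![-1, -1, -1, 0], ![0, 0, 1, 0], ![2, 4, 2, 1]]),
    (2, ![![1, 1, 0, 0], ![-1, -2, -1, 0], ![0, 2, 1, 0], ![2, 2, 2, 1]]),
    (0, ![![1, 1, 1, 0], ![-1, -2, -1, 0], ![0, 2, 1, 0], ![2, 2, 1, 1]]),
    (1, ![![0, 1, 1, 0], ![-1, -2, -1, 0], ![2, 2, 1, 0], ![0, 2, 1, 1]]),
    (2, ![![0, 1, 1, 0], ![-1, -1, -1, 0], ![2, 2, 1, 0], ![0, 0, 1, 1]]),
    (0, ![![0, 1, 0, 0], ![-1, -1, 0, 0], ![2, 2, 1, 0], ![0, 0, 0, 1]]),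
    (1, ![![1, 1, 0, 0], ![0, -1, 0, 0], ![0, 2, 1, 0], ![0, 0, 0, 1]])]

theorem chS_ok : ChainOK H493.PGF4T.Am chS := by decide +kernel

theorem chS1_ok : ChainOK H493.PGF4T.Am chS1 := by decide +kernel

/-- the orders -/
def NN : Fin 7 → P := ![tdA.N, tdB.N, tdCp.N, tdCm.N, tdD.N, tdEp.N, tdEm.N]

/-- Bezout certificates -/
def BZ : List (ℕ × ℕ × P × P × ℕ × ℕ) := [
  (0, 1, [-1], [1], 1, 0),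
  (0, 2, [0, 1], [1, -1], 0, 0),
  (0, 3, [0, -1], [1, 1], 0, 0),
  (0, 4, [0, 0, -2], [1], 0, 0),
  (0, 5, [2, 2, 2, 8], [3, -4], 0, 0),
  (0, 6, [2, -2, 2, -8], [3, 4], 0, 0),
  (1, 2, [1, 1], [0, -1], 0, 0),
  (1, 3, [1, -1], [0, 1], 0, 0),
  (1, 4, [2, 0, -2], [1], 0, 1),
  (1, 5, [0, -2, -2], [1], 0, 0),
  (1, 6, [0, 2, -2], [1], 0, 0),
  (2, 3, [1, -1], [1, 1], 1, 0),
  (2, 4, [2, -2, -2, 4], [-1, -2], 0, 0),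
  (2, 5, [2, 0, 2, 4], [-1, -2], 0, 0),
  (2, 6, [2, -4, 6, -4], [1, 2], 0, 1),
  (3, 4, [2, 2, -2, -4], [-1, 2], 0, 0),
  (3, 5, [2, 4, 6, 4], [1, -2], 0, 1),
  (3, 6, [2, 0, 2, -4], [-1, 2], 0, 0),
  (4, 5, [2, 1, 2, 4], [-1, 1, 2, -4], 0, 0),
  (4, 6, [2, -1, 2, -4], [-1, -1, 2, 4], 0, 0),
  (5, 6, [1, -1], [1, 1], 1, 0)]

end Cfsg.Agent.H759.TwF
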