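import Cfsg.Agent.H493.F4Tor

/-!
# `²F₄(q)` as the fixed points of the Steinberg endomorphism of `F₄(k)` (helper759)
-/

set_option autoImplicit false
set_option linter.unusedSectionVars false

namespace Cfsg.Agent.H759.TwF

open Cfsg.Lie Cfsg.Agent.ChevalleyStructure.Elts Cfsg.Agent.ChevalleyStructure.TwF4.Bits
  Cfsg.Agent.ChevalleyStructure.TwF4.Fix Cfsg.Agent.ChevalleyStructure.TwF4.TwistedFix
open Cfsg.Agent.ChevalleyStructure.TwF4 Cfsg.Agent.H493 Cfsg.Agent.H493.F4End Cfsg.Agent.H493.F4Fix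
open Cfsg.Agent.ChevalleyStructure.TwF4.Rel (bar W coe_W W_cons W_nil)
open Cfsg.Agent.GpExc.Field (emb emb_injective)

universe u

theorem twisted_le_group {K : Type*} [Field K] [CharP K 2] (e : ℕ) : Lie.twistedF4 K e ≤ chevF4.group K := by
  have hW : ∀ w : List (ℕ × K), (W w : GL chevF4.Idx K) ∈ chevF4.group K := by
    intro w
    induction w with
    | nil => exact one_mem _
    | cons a w ih =>
      rw [W_cons]
      exact mul_mem (X_mem _ _) ih
  refine (Subgroup.closure_le _).2 ?_
  rintro g ⟨w, -, hg⟩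
  have : g = W w := Units.ext (by rw [hg, coe_W])
  rw [this]
  exact hW w

variable {K : Type u} [Field K] [Fintype K] [CharP K 2] {m : ℕ} (hK : Fintype.card K = 2 ^ (2 * m + 1))

include hK in
/-- The elements of `²F₄(q)` are fixed by the Steinberg endomorphism. -/
theorem ste_eq {g : ↥(chevF4.group K)} (hg : (g : GL chevF4.Idx K) ∈ twistedF4 K (2 ^ m)) : ste K m g = g := by
  obtain ⟨φ, hφ⟩ := exists_rln hK
  have h1 := (twisted_le_Fix' hK hφ hg).2
  apply iA_injective
  apply Units.ext
  rw [coe_iA, coe_iA]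
  have h2 := Amat_ste m g
  have h3 : Cmat (F4Fix.mt g) = (Amat (F4Fix.mt g)).map φ := h1
  refine h2.trans ?_
  rw [h3]
  ext i j
  rw [Matrix.map_apply, Matrix.map_apply, iterateFrobenius_def, ← map_pow, hφ.phi_pow]

variable {k : Type u} [Field k] [CharP k 2] (f : K →+* k)

/-- the embedding -/
noncomputable def eF (m : ℕ) (f : K →+* k) : ↥(twistedF4 K (2 ^ m)) →* ↥(chevF4.group k) :=
  (emb hD f).comp (Subgroup.inclusion (twisted_le_group (2 ^ m)))

theorem eF_injective : Function.Injective (eF m f) :=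
  (emb_injective hD f).comp (Subgroup.inclusion_injective _)

variable [IsAlgClosed k]

include hK in
theorem ste_eF (x : ↥(twistedF4 K (2 ^ m))) : ste k m (eF m f x) = eF m f x := by
  show ste k m (emb hD f _) = emb hD f _
  rw [← H493.F4Tor.emb_ste, ste_eq hK]
  exact x.2

include hK in
theorem exists_eF {y : ↥(chevF4.group k)} (hy : ste k m y = y) : ∃ x, eF m f x = y := by
  obtain ⟨g, hg, hgm⟩ := H493.F4Tor.exists_fin f hK hy
  exact ⟨⟨g, hgm⟩, hg⟩

end Cfsg.Agent.H759.TwF
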