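import Cfsg.Agent.H759.TwF.Norm

/-!
# Orders of the twisted tori of `²F₄(q)` (helper759)
-/

set_option autoImplicit false
set_option linter.unusedSectionVars false

namespace Cfsg.Agent.H759.TwF

open CoxeterSystem Cfsg Cfsg.Lie Cfsg.Lie.ChevalleyDatum
open Cfsg.Agent.ChevalleyStructure Cfsg.Agent.ChevalleyStructure.Elts Cfsg.Agent.ChevalleyStructure.CoxeterGeom
  Cfsg.Agent.ChevalleyStructure.CoxeterGeomTypes Cfsg.Agent.ChevalleyStructure.NPerm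
open Cfsg.Agent.Tits.Roots Cfsg.Agent.Tits.Core Cfsg.Agent.Nodes Cfsg.Agent.Nodes.Reps Cfsg.Agent.Nodes.BNOf
  Cfsg.Agent.Nodes.RGDChev
open Cfsg.Agent.KFacts.RgdField Cfsg.Agent.KFacts.RgdChevCoord Cfsg.Agent.BpExc.TorCent Cfsg.Agent.BpExc.TorChev
open Cfsg.Agent.GpExc.Field Cfsg.Agent.BpExc.Tow Cfsg.Agent.BpExc.TowChev
  Cfsg.Agent.BpExc.LangFr Cfsg.Agent.BpExc Cfsg.Agent.H129.TorusChar Cfsg.Agent.H129.TorusUntw
open Cfsg.Agent.H493.F4End Cfsg.Agent.H493.F4Tor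
open Cfsg.Agent.H630.NH Cfsg.Agent.H630.Exc

universe u v

/-- Two independent elements of order `N`. -/
theorem mul_dvd_card {G : Type*} [Group G] [Finite G] {a b : G} (hab : a * b = b * a) {N : ℕ}
    (ha : a ^ N = 1) (h : ∀ i j : ℤ, a ^ i = b ^ j → (N : ℤ) ∣ i) (h' : ∀ i : ℕ, b ^ i = 1 → N ∣ i) :
    N ^ 2 ∣ Nat.card G := by
  have hcomm : ∀ (x : Subgroup.zpowers a) (y : Subgroup.zpowers b), Commute (x : G) (y : G) := by
    rintro ⟨x, hx⟩ ⟨y, hy⟩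
    obtain ⟨i, rfl⟩ := Subgroup.mem_zpowers_iff.1 hx
    obtain ⟨j, rfl⟩ := Subgroup.mem_zpowers_iff.1 hy
    exact ((show Commute a b from hab).zpow_zpow i j)
  let f : ↥(Subgroup.zpowers a) × ↥(Subgroup.zpowers b) →* G :=
    MonoidHom.noncommCoprod (Subgroup.zpowers a).subtype (Subgroup.zpowers b).subtype hcomm
  have hf : Function.Injective f := by
    rw [injective_iff_map_eq_one]
    rintro ⟨⟨x, hx⟩, ⟨y, hy⟩⟩ hxy
    obtain ⟨i, rfl⟩ := Subgroup.mem_zpowers_iff.1 hx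
    obtain ⟨j, rfl⟩ := Subgroup.mem_zpowers_iff.1 hy
    have h1 : a ^ i * b ^ j = 1 := hxy
    have h2 : a ^ i = b ^ (-j) := by rw [zpow_neg]; exact eq_inv_of_mul_eq_one_left h1
    obtain ⟨c, hc⟩ := h _ _ h2
    have h3 : a ^ i = 1 := by rw [hc, zpow_mul, zpow_natCast, ha, one_zpow]
    have h4 : b ^ j = 1 := by rwa [h3, one_mul] at h1
    exact Prod.ext (Subtype.ext h3) (Subtype.ext h4)
  have h1 := Subgroup.card_dvd_of_injective f hf
  rw [Nat.card_prod, Nat.card_zpowers, Nat.card_zpowers] at h1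
  refine dvd_trans ?_ h1
  rw [pow_two]
  refine mul_dvd_mul ?_ (h' _ (pow_orderOf_eq_one b))
  have h2 := h (orderOf a) 0 (by rw [zpow_natCast, pow_orderOf_eq_one, zpow_zero])
  exact Int.natCast_dvd_natCast.1 h2

section

variable {K : Type u} [Field K] [Fintype K] [CharP K 2] {m : ℕ} (hK : Fintype.card K = 2 ^ (2 * m + 1))
  {k : Type u} [Field k] [IsAlgClosed k] [CharP k 2] (f : K →+* k) (hk : LocFin k) {W : Type*} [Group W] [Finite W]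
  (cs : CoxeterSystem CoxeterMatrix.F₄ W) {hN : NSys CoxeterMatrix.F₄ (TT chevF4 k) (nc hp k)} {w : W}
  {n z : ↥(chevF4.group k)} (hn : Rp cs hN w n) (hz : n = z⁻¹ * ste k m z)

include hK hz hk hn

/-- Elements of the torus given by a functional. -/
theorem exists_el {N : ℕ} {ζ : k} (hζ : IsPrimitiveRoot ζ N) (hN0 : N ≠ 0) (L : (Fin 4 → ℤ) →+ ℤ)
    (hL : ∀ x, (N : ℤ) ∣ L (rep cs hp.isCartan w x) - L (Tt (2 ^ m) x)) :
    ∃ a : ↥(twistedF4 K (2 ^ m)), a ∈ tX chevF4 k (eF m f) z ∧ a ^ N = 1 ∧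
      ∀ (i : ℤ) (x : Fin 4 → ℤ), cX hp (z⁻¹ * eF m f (a ^ i) * z) x = ζ ^ (i * L x) := by
  obtain ⟨t, ht, htI, htc⟩ := exists_tw cs m w hζ hN0 L hL
  obtain ⟨a, ha⟩ := exists_of_tau hK f hz ((tau_iff cs hk hn ht).2 htI)
  have hpow : ∀ i : ℤ, z⁻¹ * eF m f (a ^ i) * z = t ^ i := by
    intro i
    have h2 := conj_zpow (i := i) (a := z⁻¹) (b := eF m f a)
    rw [inv_inv] at h2
    rw [map_zpow, ← h2, ha]
  have hmc := isMC_cX hp ht
  have hz1 : ∀ (i : ℤ) (x : Fin 4 → ℤ), cX hp (t ^ i) x = ζ ^ (i * L x) := by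
    intro i x
    obtain ⟨j, rfl | rfl⟩ := i.eq_nat_or_neg
    · rw [zpow_natCast, cX_pow hp ht, htc, ← zpow_natCast, ← zpow_mul, mul_comm]
    · have h1 : cX hp (t ^ (-(j : ℤ))) x * cX hp (t ^ j) x = 1 := by
        rw [← cX_mul hp (zpow_mem ht _) (pow_mem ht _), zpow_neg, zpow_natCast, inv_mul_cancel, cX_one]
      have h2 : cX hp (t ^ j) x = ζ ^ ((j : ℤ) * L x) := by
        rw [cX_pow hp ht, htc, ← zpow_natCast, ← zpow_mul, mul_comm]
      rw [h2] at h1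
      rw [eq_inv_of_mul_eq_one_left h1, ← zpow_neg]
      congr 1
      ring
  refine ⟨a, by rw [mem_tX, ha]; exact ht, ?_, fun i x => by rw [hpow, hz1]⟩
  apply eq_one_of_conj (z := z) f
  have h3 := hpow N
  rw [zpow_natCast] at h3
  rw [h3]
  refine cX_inj hp (zpow_mem ht _) (one_mem _) fun i => ?_
  rw [hz1, cX_one, hζ.zpow_eq_one_iff_dvd]
  exact dvd_mul_right _ _

/-- The order of a torus of rank 1. -/
theorem dvd_card_one {N : ℕ} (hN2 : (N : k) ≠ 0) {L : (Fin 4 → ℤ) →+ ℤ}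
    (hL : ∀ x, (N : ℤ) ∣ L (rep cs hp.isCartan w x) - L (Tt (2 ^ m) x)) {U : Fin 4 → ℤ}
    (hU : IsCoprime (N : ℤ) (L U)) : N ∣ Nat.card ↥(tX chevF4 k (eF m f) z) := by
  have hN0 : N ≠ 0 := by rintro rfl; exact hN2 Nat.cast_zero
  have : NeZero (N : k) := ⟨hN2⟩
  obtain ⟨ζ, hζ⟩ := HasEnoughRootsOfUnity.exists_primitiveRoot k N
  obtain ⟨a, ha, haN, hac⟩ := exists_el hK f hk cs hn hz hζ hN0 L hL
  have h1 : N ∣ orderOf a := by
    have h2 := hac (orderOf a : ℤ) U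
    rw [zpow_natCast, pow_orderOf_eq_one, map_one, mul_one, inv_mul_cancel, cX_one] at h2
    have h3 := (hζ.zpow_eq_one_iff_dvd _).1 h2.symm
    exact Int.natCast_dvd_natCast.1 (hU.dvd_of_dvd_mul_right h3)
  refine h1.trans ?_
  have h2 := orderOf_dvd_natCard (⟨a, ha⟩ : ↥(tX chevF4 k (eF m f) z))
  rwa [Subgroup.orderOf_mk] at h2

/-- The order of a torus of rank 2. -/
theorem dvd_card_two {N : ℕ} (hN2 : (N : k) ≠ 0) {L L' : (Fin 4 → ℤ) →+ ℤ}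
    (hL : ∀ x, (N : ℤ) ∣ L (rep cs hp.isCartan w x) - L (Tt (2 ^ m) x))
    (hL' : ∀ x, (N : ℤ) ∣ L' (rep cs hp.isCartan w x) - L' (Tt (2 ^ m) x)) {U U' : Fin 4 → ℤ}
    (hU : IsCoprime (N : ℤ) (L U)) (hU' : IsCoprime (N : ℤ) (L' U')) (h0 : (N : ℤ) ∣ L' U) :
    N ^ 2 ∣ Nat.card ↥(tX chevF4 k (eF m f) z) := by
  have hN0 : N ≠ 0 := by rintro rfl; exact hN2 Nat.cast_zero
  have : NeZero (N : k) := ⟨hN2⟩
  obtain ⟨ζ, hζ⟩ := HasEnoughRootsOfUnity.exists_primitiveRoot k N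
  obtain ⟨a, ha, haN, hac⟩ := exists_el hK f hk cs hn hz hζ hN0 L hL
  obtain ⟨b, hb, hbN, hbc⟩ := exists_el hK f hk cs hn hz hζ hN0 L' hL'
  refine mul_dvd_card (a := (⟨a, ha⟩ : ↥(tX chevF4 k (eF m f) z))) (b := ⟨b, hb⟩)
    (Subtype.ext (tX_comm hp (eF_injective f) z ha hb)) (Subtype.ext haN) ?_ ?_
  · intro i j hij
    have h1 : a ^ i = b ^ j := congrArg Subtype.val hij
    have h2 := hac i U
    rw [h1, hbc] at h2
    have h3 : ζ ^ (j * L' U) = 1 := (hζ.zpow_eq_one_iff_dvd _).2 (h0.mul_left _)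
    rw [h3] at h2
    exact hU.dvd_of_dvd_mul_right ((hζ.zpow_eq_one_iff_dvd _).1 h2.symm)
  · intro i hi
    have h1 : b ^ (i : ℤ) = 1 := by rw [zpow_natCast]; exact congrArg Subtype.val hi
    have h2 := hbc i U'
    rw [h1, map_one, mul_one, inv_mul_cancel, cX_one] at h2
    exact Int.natCast_dvd_natCast.1 (hU'.dvd_of_dvd_mul_right ((hζ.zpow_eq_one_iff_dvd _).1 h2.symm))

end

end Cfsg.Agent.H759.TwF
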