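import Cfsg.Agent.H759.TwF.Emb
import Cfsg.Agent.H630.ExcB

/-!
# Twisted tori of `²F₄(q)` and `Cond` (helper759)

`Tt b` : the operator of the Steinberg endomorphism on the root lattice (`b = 2 ^ m`).
`InT` : the elements of the torus fixed by `t ↦ n ste(t) n⁻¹`, in terms of characters.
-/

set_option autoImplicit false
set_option linter.unusedSectionVars false

namespace Cfsg.Agent.H759.TwF

open CoxeterSystem Cfsg Cfsg.Lie Cfsg.Lie.ChevalleyDatum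
open Cfsg.Agent.ChevalleyStructure Cfsg.Agent.ChevalleyStructure.Elts Cfsg.Agent.ChevalleyStructure.CoxeterGeom
  Cfsg.Agent.ChevalleyStructure.CoxeterGeomTypes Cfsg.Agent.ChevalleyStructure.NPerm
open Cfsg.Agent.Tits.Roots Cfsg.Agent.Tits.Core Cfsg.Agent.Nodes Cfsg.Agent.Nodes.Reps Cfsg.Agent.Nodes.BNOf
  Cfsg.Agent.Nodes.RGDChev
open Cfsg.Agent.KFacts.RgdField Cfsg.Agent.KFacts.RgdChevCoord Cfsg.Agent.BpExc.TorCent Cfsg.Agent.BpExc.TorChev
open Cfsg.Agent.GpExc.Field Cfsg.Agent.BpExc.Tow Cfsg.Agent.BpExc.TowChev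
  Cfsg.Agent.BpExc.LangFr Cfsg.Agent.BpExc Cfsg.Agent.H129.TorusChar Cfsg.Agent.H129.TorusUntw
open Cfsg.Agent.H493.F4End Cfsg.Agent.H493.F4Tor
open Cfsg.Agent.H630.NH Cfsg.Agent.H630.Exc

universe u v

/-- the operator of the Steinberg endomorphism on the root lattice -/
def Tt (b : ℤ) : (Fin 4 → ℤ) →+ (Fin 4 → ℤ) where
  toFun x j := (eN j : ℤ) * b * x (rv j)
  map_zero' := by funext j; simp
  map_add' x y := by funext j; simp [mul_add]

theorem Tt_sr (b : ℤ) (j : Fin 4) : Tt b (sr (rv j)) = ((eN j : ℤ) * b) • (sr j : Fin 4 → ℤ) := by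
  funext i
  show (eN i : ℤ) * b * (sr (rv j) : Fin 4 → ℤ) (rv i) = ((eN j : ℤ) * b) * (sr j : Fin 4 → ℤ) i
  by_cases h : i = j
  · subst h; rw [sr_self, sr_self]
  · rw [sr_ne h, sr_ne (fun e => h (by have := congrArg rv e; rwa [rv_rv, rv_rv] at this)), mul_zero, mul_zero]

theorem hom_ext {l : ℕ} {A : Type*} [AddCommGroup A] (f g : (Fin l → ℤ) →+ A) (h : ∀ j, f (sr j) = g (sr j))
    (x : Fin l → ℤ) : f x = g x := by
  rw [IsMC.eq_sum_sr x, map_sum, map_sum]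
  exact Finset.sum_congr rfl fun i _ => by rw [map_zsmul, map_zsmul, h]

/-- the action of `w` as a homomorphism -/
def wh {W : Type*} [Group W] (cs : CoxeterSystem CoxeterMatrix.F₄ W) (w : W) : (Fin 4 → ℤ) →+ (Fin 4 → ℤ) :=
  (rep cs hp.isCartan w).toAddMonoidHom

section Alg

variable {k : Type u} [Field k] [IsAlgClosed k] [CharP k 2] {W : Type*} [Group W]
  (cs : CoxeterSystem CoxeterMatrix.F₄ W)

theorem wh_apply (w : W) (x : Fin 4 → ℤ) : wh cs w x = rep cs hp.isCartan w x := rfl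

theorem cX_steT (m : ℕ) {t : ↥(chevF4.group k)} (ht : t ∈ TT chevF4 k) (x : Fin 4 → ℤ) :
    cX hp (ste k m t) x = cX hp t (Tt (2 ^ m) x) := by
  refine (isMC_cX hp (ste_TT ht)).ext ((isMC_cX hp ht).comp (Tt (2 ^ m))) (fun i => ?_) x
  have h1 := cX_ste m ht (rv i)
  have h2 := Tt_sr (2 ^ m) (rv i)
  rw [rv_rv] at h1 h2
  rw [h1, h2, (isMC_cX hp ht).zsmul, ← zpow_natCast]
  push_cast
  rfl

/-- the elements of the torus fixed by `t ↦ n ste(t) n⁻¹` -/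
def InT (m : ℕ) (w : W) (t : ↥(chevF4.group k)) : Prop :=
  ∀ x, cX hp t (rep cs hp.isCartan w x) = cX hp t (Tt (2 ^ m) x)

variable (hk : LocFin k) {hN : NSys CoxeterMatrix.F₄ (TT chevF4 k) (nc hp k)} {w : W} {n : ↥(chevF4.group k)}
  (hn : Rp cs hN w n) {m : ℕ}

include hn in
theorem tau_mem {t : ↥(chevF4.group k)} (ht : t ∈ TT chevF4 k) : n * ste k m t * n⁻¹ ∈ TT chevF4 k :=
  (Subgroup.mem_normalizer_iff.1 hn.mem_normalizer _).1 (ste_TT ht)

include hk hn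

theorem cX_tau {t : ↥(chevF4.group k)} (ht : t ∈ TT chevF4 k) (x : Fin 4 → ℤ) :
    cX hp (n * ste k m t * n⁻¹) (rep cs hp.isCartan w x) = cX hp t (Tt (2 ^ m) x) := by
  have : Fact (Nat.Prime 2) := ⟨Nat.prime_two⟩
  rw [cX_rp hp cs hk 2 hn (ste_TT ht), cX_steT m ht]

theorem tau_iff {t : ↥(chevF4.group k)} (ht : t ∈ TT chevF4 k) : n * ste k m t * n⁻¹ = t ↔ InT cs m w t := by
  constructor
  · intro h x
    rw [← cX_tau cs hk hn ht, h]
  · intro h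
    refine cX_inj hp (tau_mem cs hn ht) ht fun i => ?_
    have h8 : sr i = rep cs hp.isCartan w (rep cs hp.isCartan w⁻¹ (sr i)) := by
      rw [← Module.End.mul_apply, ← map_mul, mul_inv_cancel, map_one, Module.End.one_apply]
    rw [h8, cX_tau cs hk hn ht, h]

omit hk hn

/-- **Elements of the twisted torus.** -/
theorem exists_tw (m : ℕ) (w : W) {N : ℕ} {ζ : k} (hζ : IsPrimitiveRoot ζ N) (hN0 : N ≠ 0) (L : (Fin 4 → ℤ) →+ ℤ)
    (hL : ∀ x, (N : ℤ) ∣ L (rep cs hp.isCartan w x) - L (Tt (2 ^ m) x)) :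
    ∃ t ∈ TT chevF4 k, InT cs m w t ∧ ∀ x, cX hp t x = ζ ^ L x := by
  have hz0 : ζ ≠ 0 := hζ.ne_zero hN0
  have hMC : IsMC (fun x : Fin 4 → ℤ => ζ ^ L x) :=
    ⟨by show ζ ^ L 0 = 1; rw [map_zero, zpow_zero], fun x y => by
      show ζ ^ L (x + y) = _; rw [map_add, zpow_add₀ hz0]⟩
  obtain ⟨t, ht, hcX⟩ := exists_cX hp invC_F4 one_ne_zero hMC fun i => ⟨_, pow_one _⟩
  refine ⟨t, ht, fun x => ?_, hcX⟩
  rw [hcX, hcX]
  have h1 : L (rep cs hp.isCartan w x) = L (Tt (2 ^ m) x) + (L (rep cs hp.isCartan w x) - L (Tt (2 ^ m) x)) := by ring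
  rw [h1, zpow_add₀ hz0, (hζ.zpow_eq_one_iff_dvd _).2 (hL x), mul_one]

end Alg

end Cfsg.Agent.H759.TwF
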